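import Cfsg.Agent.H966.SporCrit
import Cfsg.Agent.Lib.GenFitting
import Cfsg.Agent.OddOrderLocal.RankTwoFitting
import Cfsg.Agent.S0205

/-!
# The Thompson group: `C(w) = ⟨w⟩` for `w` of order 19 (helper574)
-/

set_option autoImplicit false

namespace Cfsg.Agent.H574.NinCent

open Subgroup

universe u

/-- the hypotheses -/
structure Sit {G : Type u} [Group G] (w a b : G) : Prop where
  card : Nat.card G = 90745943887872000
  ow : orderOf w = 19
  cinv : ∀ t : G, orderOf t = 2 → Nat.card ↥(centralizer ({t} : Set G)) = 92897280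
  even : ∀ x s : G, (orderOf x = 3 ∨ orderOf x = 5 ∨ orderOf x = 7) → orderOf s = 2 → s * x = x * s →
    ¬ 19 ∣ Nat.card ↥(centralizer ({x} : Set G))
  oa : orderOf a = 2
  ha : a * w = w ^ 18 * a
  hb : b * w = w ^ 6 * b

/-- prime divisors of `|C(t)|` -/
theorem prime_of_dvd {r : ℕ} (hr : r.Prime) (h : r ∣ 92897280) : r = 2 ∨ r = 3 ∨ r = 5 ∨ r = 7 := by
  have h1 : (92897280 : ℕ) = 2 ^ 15 * (3 ^ 4 * (5 * 7)) := by norm_num
  rw [h1] at h
  rcases hr.dvd_mul.1 h with h | h
  · exact Or.inl ((Nat.prime_dvd_prime_iff_eq hr Nat.prime_two).1 (hr.dvd_of_dvd_pow h))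
  rcases hr.dvd_mul.1 h with h | h
  · exact Or.inr (Or.inl ((Nat.prime_dvd_prime_iff_eq hr Nat.prime_three).1 (hr.dvd_of_dvd_pow h)))
  rcases hr.dvd_mul.1 h with h | h
  · exact Or.inr (Or.inr (Or.inl ((Nat.prime_dvd_prime_iff_eq hr Nat.prime_five).1 h)))
  · exact Or.inr (Or.inr (Or.inr ((Nat.prime_dvd_prime_iff_eq hr (by norm_num)).1 h)))

/-- prime divisors of `|G|` -/
theorem prime_of_dvd' {r : ℕ} (hr : r.Prime) (h : r ∣ 90745943887872000) :
    r = 2 ∨ r = 3 ∨ r = 5 ∨ r = 7 ∨ r = 13 ∨ r = 19 ∨ r = 31 := by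
  have h1 : (90745943887872000 : ℕ) = 2 ^ 15 * (3 ^ 10 * (5 ^ 3 * (7 ^ 2 * (13 * (19 * 31))))) := by norm_num
  rw [h1] at h
  rcases hr.dvd_mul.1 h with h | h
  · have := (Nat.prime_dvd_prime_iff_eq hr Nat.prime_two).1 (hr.dvd_of_dvd_pow h)
    omega
  rcases hr.dvd_mul.1 h with h | h
  · have := (Nat.prime_dvd_prime_iff_eq hr Nat.prime_three).1 (hr.dvd_of_dvd_pow h)
    omega
  rcases hr.dvd_mul.1 h with h | h
  · have := (Nat.prime_dvd_prime_iff_eq hr Nat.prime_five).1 (hr.dvd_of_dvd_pow h)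
    omega
  rcases hr.dvd_mul.1 h with h | h
  · have := (Nat.prime_dvd_prime_iff_eq hr (by norm_num)).1 (hr.dvd_of_dvd_pow h)
    omega
  rcases hr.dvd_mul.1 h with h | h
  · have := (Nat.prime_dvd_prime_iff_eq hr (by norm_num)).1 h
    omega
  rcases hr.dvd_mul.1 h with h | h
  · have := (Nat.prime_dvd_prime_iff_eq hr (by norm_num)).1 h
    omega
  · have := (Nat.prime_dvd_prime_iff_eq hr (by norm_num)).1 h
    omega

theorem num19 : ¬ 19 ^ 2 ∣ 90745943887872000 := by norm_num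

/-- `q ^ k ∣ |G|` gives `19 ∤ q ^ k - 1` -/
theorem num_ord {q k : ℕ} (hq : q.Prime) (hk : k ≠ 0) (h : q ^ k ∣ 90745943887872000) : ¬ 19 ∣ q ^ k - 1 := by
  have h1 : q ∣ 90745943887872000 := (dvd_pow_self q hk).trans h
  have key : ∀ (q n : ℕ), ¬ q ^ n ∣ 90745943887872000 → q ^ k ∣ 90745943887872000 → k < n := by
    intro q n h1 h2
    by_contra h3
    exact h1 ((pow_dvd_pow q (not_lt.1 h3)).trans h2)
  rcases prime_of_dvd' hq h1 with rfl | rfl | rfl | rfl | rfl | rfl | rfl
  · have := key 2 16 (by norm_num) h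
    interval_cases k <;> first | exact absurd rfl hk | norm_num
  · have := key 3 11 (by norm_num) h
    interval_cases k <;> first | exact absurd rfl hk | norm_num
  · have := key 5 4 (by norm_num) h
    interval_cases k <;> first | exact absurd rfl hk | norm_num
  · have := key 7 3 (by norm_num) h
    interval_cases k <;> first | exact absurd rfl hk | norm_num
  · have := key 13 2 (by norm_num) h
    interval_cases k <;> first | exact absurd rfl hk | norm_num
  · have := key 19 2 (by norm_num) h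
    interval_cases k <;> first | exact absurd rfl hk | norm_num
  · have := key 31 2 (by norm_num) h
    interval_cases k <;> first | exact absurd rfl hk | norm_num

/-- an element of prime order among the powers -/
theorem exists_pow {G : Type u} [Group G] [Finite G] {c : G} (hc : c ≠ 1) : ∃ (r n : ℕ), r.Prime ∧ orderOf (c ^ n) = r := by
  have h1 : orderOf c ≠ 1 := fun h => hc (orderOf_eq_one_iff.1 h)
  obtain ⟨r, hr, hrd⟩ := Nat.exists_prime_and_dvd h1
  obtain ⟨m, hm⟩ := hrd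
  refine ⟨r, m, hr, ?_⟩
  have h0 : 0 < orderOf c := orderOf_pos c
  have hm0 : m ≠ 0 := by rintro rfl; omega
  rw [orderOf_pow' c hm0, hm, Nat.gcd_eq_right (Dvd.intro_left _ rfl), Nat.mul_div_cancel _ (Nat.pos_of_ne_zero hm0)]

section

variable {G : Type u} [Group G] {w a b : G} (h : Sit w a b)
include h

theorem Sit.fin : Finite G := Nat.finite_of_card_ne_zero (by rw [h.card]; norm_num)

/-- an element of order 19 does not commute with involutions -/
theorem Sit.ninv {t : G} (ht : orderOf t = 2) {v : G} (hv : orderOf v = 19) : v * t ≠ t * v := by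
  have := h.fin
  intro hc
  have h1 : orderOf (⟨v, mem_centralizer_singleton_iff.2 hc⟩ : ↥(centralizer ({t} : Set G))) ∣
      Nat.card ↥(centralizer ({t} : Set G)) := orderOf_dvd_natCard _
  rw [Subgroup.orderOf_mk, hv, h.cinv t ht] at h1
  revert h1
  norm_num

/-- an element of prime order commuting with `w` does not commute with an involution -/
theorem Sit.prime_free {r : ℕ} (hr : r.Prime) {d t : G} (hd : orderOf d = r) (hdw : d * w = w * d)
    (ht : orderOf t = 2) (hdt : d * t = t * d) : False := by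
  have := h.fin
  have h1 : orderOf (⟨d, mem_centralizer_singleton_iff.2 hdt⟩ : ↥(centralizer ({t} : Set G))) ∣
      Nat.card ↥(centralizer ({t} : Set G)) := orderOf_dvd_natCard _
  rw [Subgroup.orderOf_mk, hd, h.cinv t ht] at h1
  have h2 : 19 ∣ Nat.card ↥(centralizer ({d} : Set G)) := by
    rw [← h.ow, ← Subgroup.orderOf_mk w (mem_centralizer_singleton_iff.2 hdw.symm)]
    exact orderOf_dvd_natCard _
  rcases prime_of_dvd hr h1 with rfl | h3
  · exact h.ninv hd h.ow hdw.symm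
  · exact h.even d t (by rw [hd]; exact h3) ht hdt.symm h2

/-- `C(w) ∩ C(a) = 1` -/
theorem Sit.comm_free {c t : G} (hcw : c * w = w * c) (ht : orderOf t = 2) (hct : c * t = t * c) : c = 1 := by
  have := h.fin
  by_contra hc
  obtain ⟨r, n, hr, hn⟩ := exists_pow hc
  exact h.prime_free hr hn ((show Commute c w from hcw).pow_left n) ht ((show Commute c t from hct).pow_left n)

/-- `w ^ k = 1` -/
theorem Sit.pow_iff (k : ℕ) : w ^ k = 1 ↔ 19 ∣ k := by rw [← h.ow, orderOf_dvd_iff_pow_eq_one]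

theorem Sit.aa : a * a = 1 := by rw [← pow_two, ← h.oa, pow_orderOf_eq_one]

/-- conjugation by `a` -/
theorem Sit.conj_a : a * w * a⁻¹ = w ^ 18 := by rw [h.ha, mul_inv_cancel_right]

theorem Sit.conj_b : b * w * b⁻¹ = w ^ 6 := by rw [h.hb, mul_inv_cancel_right]

/-- `C(w)` is commutative -/
theorem Sit.comm {c d : G} (hc : c * w = w * c) (hd : d * w = w * d) : c * d = d * c := by
  have := h.fin
  have ha' : a⁻¹ = a := inv_eq_of_mul_eq_one_left h.aa
  -- conjugation by `a`
  have hcl : ∀ c : G, c * w = w * c → (a * c * a⁻¹) * w = w * (a * c * a⁻¹) := by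
    intro c hc
    have h1 : Commute (a * c * a⁻¹) (w ^ 18) := by
      rw [← h.conj_a]
      show a * c * a⁻¹ * (a * w * a⁻¹) = a * w * a⁻¹ * (a * c * a⁻¹)
      calc a * c * a⁻¹ * (a * w * a⁻¹) = a * (c * w) * a⁻¹ := by group
        _ = a * w * a⁻¹ * (a * c * a⁻¹) := by rw [hc]; group
    have h2 : (w ^ 18) ^ 18 = w := by
      rw [← pow_mul]
      calc w ^ (18 * 18) = (w ^ 19) ^ 17 * w := by rw [← pow_mul, ← pow_succ]
        _ = w := by rw [(h.pow_iff 19).2 dvd_rfl, one_pow, one_mul]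
    have h3 := h1.pow_right 18
    rw [h2] at h3
    exact h3.eq
  let C := centralizer ({w} : Set G)
  let φ : ↥C →* ↥C :=
    { toFun := fun c => ⟨a * c * a⁻¹, mem_centralizer_singleton_iff.2 (hcl c (mem_centralizer_singleton_iff.1 c.2))⟩
      map_one' := Subtype.ext (by show a * ((1 : ↥C) : G) * a⁻¹ = 1; simp)
      map_mul' := fun x y => Subtype.ext (by
        show a * ((x : G) * y) * a⁻¹ = a * x * a⁻¹ * (a * y * a⁻¹)
        group) }
  have hfree : MonoidHom.FixedPointFree φ := by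
    rintro ⟨c, hc⟩ h1
    have h2 : a * c * a⁻¹ = c := congrArg Subtype.val h1
    apply Subtype.ext
    exact h.comm_free (mem_centralizer_singleton_iff.1 hc) h.oa (mul_inv_eq_iff_eq_mul.1 h2).symm
  have hinv : Function.Involutive φ := by
    rintro ⟨c, hc⟩
    apply Subtype.ext
    show a * (a * c * a⁻¹) * a⁻¹ = c
    rw [ha']
    calc a * (a * c * a) * a = (a * a) * c * (a * a) := by group
      _ = c := by rw [h.aa, one_mul, mul_one]
  have h1 := hfree.commute_all_of_involutive hinv ⟨c, mem_centralizer_singleton_iff.2 hc⟩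
    ⟨d, mem_centralizer_singleton_iff.2 hd⟩
  exact congrArg Subtype.val h1.eq

/-- **centralizers of the elements of prime order of `C(w)`** -/
theorem Sit.cent_le {r : ℕ} (hr : r.Prime) {d : G} (hd : orderOf d = r) (hdw : d * w = w * d) :
    centralizer ({d} : Set G) ≤ normalizer ((zpowers w : Subgroup G) : Set G) := by
  classical
  have := h.fin
  have : Fact (Nat.Prime 19) := ⟨by norm_num⟩
  have : Fact (Nat.Prime 2) := ⟨Nat.prime_two⟩
  set X := centralizer ({d} : Set G) with hX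
  have hodd : Odd (Nat.card X) := by
    rw [← Nat.not_even_iff_odd, even_iff_two_dvd]
    intro h2
    obtain ⟨⟨t, htX⟩, ht⟩ := exists_prime_orderOf_dvd_card' 2 h2
    rw [Subgroup.orderOf_mk] at ht
    exact h.prime_free hr hd hdw ht (mem_centralizer_singleton_iff.1 htX).symm
  have hsol : Group.IsSolvable X := S0205.result hodd
  let v : X := ⟨w, mem_centralizer_singleton_iff.2 hdw.symm⟩
  have hv : orderOf v = 19 := by rw [Subgroup.orderOf_mk]; exact h.ow
  -- a Sylow subgroup containing `v`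
  have hvp : IsPGroup 19 (zpowers v) := IsPGroup.of_card (n := 1) (by rw [Nat.card_zpowers, hv, pow_one])
  obtain ⟨P, hP⟩ := hvp.exists_le_sylow
  have hPc : Nat.card (P : Subgroup X) = 19 := by
    obtain ⟨n, hn⟩ := IsPGroup.iff_card.1 P.isPGroup'
    have h1 := card_dvd_of_le hP
    rw [Nat.card_zpowers, hv] at h1
    have h3 : n < 2 := by
      by_contra h3
      apply num19
      rw [← h.card]
      refine (pow_dvd_pow 19 (not_lt.1 h3)).trans ?_
      rw [← hn]
      exact (card_subgroup_dvd_card _).trans (card_subgroup_dvd_card X)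
    interval_cases n
    · rw [hn] at h1
      omega
    · rw [hn, pow_one]
  have hPv : (P : Subgroup X) = zpowers v := by
    refine (Subgroup.eq_of_le_of_card_ge hP ?_).symm
    rw [hPc, Nat.card_zpowers, hv]
  have hcent : ∀ q : ℕ, q.Prime → v ∈ centralizer (pCore q X : Set X) := by
    intro q hq
    rw [mem_centralizer_iff]
    intro y hy
    by_cases hq19 : q = 19
    · subst hq19
      have h1 := Lib.Cores.pCore_le_sylow P hy
      rw [hPv] at h1
      obtain ⟨k, rfl⟩ := h1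
      exact ((Commute.refl v).zpow_left k).eq
    · have : Fact q.Prime := ⟨hq⟩
      have h1 := H966.SporCrit.pcent_of_order (p := q) (x := v) (l := 19) (by norm_num) hv (fun h => hq19 h.symm) (by
        intro k hk h2
        apply num_ord hq hk
        rw [← h.card]
        exact h2.trans (card_subgroup_dvd_card X))
      have hn : (pCore q X).Normal := Lib.Cores.pCore_normal q
      refine (h1 (pCore q X) (Lib.Cores.pCore_isPGroup q) ?_ y hy).symm
      rw [normalizer_eq_top_iff.2 hn]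
      exact mem_top v
  have hF := (OddOrderLocal.RankTwoFitting.mem_fitting_of_forall_mem_centralizer hcent).2
  have hv19 : v ∈ pCore 19 X := Lib.GenFitting.mem_pCore_of_mem_fitting hF (k := 1) (by
    rw [pow_one, ← hv, pow_orderOf_eq_one])
  have heq : pCore 19 X = zpowers v := by
    apply le_antisymm
    · rw [← hPv]
      exact Lib.Cores.pCore_le_sylow P
    · rwa [zpowers_le]
  have hn : (zpowers v).Normal := by
    rw [← heq]
    exact Lib.Cores.pCore_normal 19
  intro x hx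
  have key : ∀ x ∈ X, ∀ y ∈ zpowers w, x * y * x⁻¹ ∈ zpowers w := by
    rintro x hx _ ⟨k, rfl⟩
    obtain ⟨j, hj⟩ := hn.conj_mem v (mem_zpowers v) ⟨x, hx⟩
    have hj' : w ^ j = x * w * x⁻¹ := congrArg Subtype.val hj
    show x * w ^ k * x⁻¹ ∈ zpowers w
    rw [← conj_zpow, ← hj']
    exact zpow_mem (zpow_mem (mem_zpowers w) j) k
  rw [mem_normalizer_iff]
  intro y
  refine ⟨key x hx y, fun hy => ?_⟩
  have h1 := key x⁻¹ (inv_mem hx) _ hy
  have h2 : x⁻¹ * (x * y * x⁻¹) * x⁻¹⁻¹ = y := by group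
  rwa [h2] at h1

/-! ### The normaliser -/

/-- the normaliser of `⟨w⟩` -/
def MM (w : G) : Subgroup G := normalizer ((zpowers w : Subgroup G) : Set G)

omit h in
theorem mem_norm {x y : G} [Finite G] (hxy : x * y * x⁻¹ ∈ zpowers y) :
    x ∈ normalizer ((zpowers y : Subgroup G) : Set G) := by
  apply mem_normalizer_fintype
  rintro _ ⟨k, rfl⟩
  show x * y ^ k * x⁻¹ ∈ zpowers y
  rw [← conj_zpow]
  exact zpow_mem hxy k

/-- the elements of `M` of order prime to 18 centralise `w` -/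
theorem Sit.comm_of_coprime {x : G} (hx : x ∈ MM w) {n : ℕ} (hn : x ^ n = 1) (hcop : n.Coprime 18) :
    x * w = w * x := by
  have := h.fin
  let φ := (zpowers w : Subgroup G).normalizerMonoidHom
  have hcyc : IsCyclic (zpowers w) := inferInstance
  have hc : Nat.card (MulAut (zpowers w)) = 18 := by
    rw [IsCyclic.card_mulAut, Nat.card_zpowers, h.ow, Nat.totient_prime (by norm_num)]
  have h1 : orderOf (φ ⟨x, hx⟩) ∣ n := by
    apply orderOf_dvd_of_pow_eq_one
    rw [← map_pow]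
    have : (⟨x, hx⟩ : normalizer ((zpowers w : Subgroup G) : Set G)) ^ n = 1 := Subtype.ext hn
    rw [this, map_one]
  have h2 : orderOf (φ ⟨x, hx⟩) ∣ 18 := by
    rw [← hc]
    exact orderOf_dvd_natCard _
  have h3 : φ ⟨x, hx⟩ = 1 := orderOf_eq_one_iff.1 (Nat.eq_one_of_dvd_coprimes hcop h1 h2)
  have h4 : (⟨x, hx⟩ : normalizer ((zpowers w : Subgroup G) : Set G)) ∈ φ.ker := h3
  rw [normalizerMonoidHom_ker, mem_subgroupOf, mem_centralizer_iff] at h4
  exact (h4 w (mem_zpowers w)).symm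

theorem Sit.a_mem : a ∈ MM w := by
  have := h.fin
  apply mem_norm
  rw [h.conj_a]
  exact pow_mem (mem_zpowers w) _

theorem Sit.b_mem : b ∈ MM w := by
  have := h.fin
  apply mem_norm
  rw [h.conj_b]
  exact pow_mem (mem_zpowers w) _

theorem Sit.conj_b_pow (k : ℕ) : b ^ k * w * (b ^ k)⁻¹ = w ^ 6 ^ k := by
  induction k with
  | zero => simp
  | succ k ih =>
    calc b ^ (k + 1) * w * (b ^ (k + 1))⁻¹ = b * (b ^ k * w * (b ^ k)⁻¹) * b⁻¹ := by rw [pow_succ']; group
      _ = b * w ^ 6 ^ k * b⁻¹ := by rw [ih]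
      _ = (b * w * b⁻¹) ^ 6 ^ k := by rw [conj_pow]
      _ = w ^ 6 ^ (k + 1) := by rw [h.conj_b, ← pow_mul, ← pow_succ']

/-- `|M| = 18 |C(w)|` -/
theorem Sit.card_MM : Nat.card (MM w) = Nat.card (centralizer ({w} : Set G)) * 18 := by
  classical
  have := h.fin
  let φ := (zpowers w : Subgroup G).normalizerMonoidHom
  have hcyc : IsCyclic (zpowers w) := inferInstance
  have hc : Nat.card (MulAut (zpowers w)) = 18 := by
    rw [IsCyclic.card_mulAut, Nat.card_zpowers, h.ow, Nat.totient_prime (by norm_num)]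
  have hker : ∀ (x : G) (hx : x ∈ MM w), φ ⟨x, hx⟩ = 1 ↔ x * w = w * x := by
    intro x hx
    have h1 : φ ⟨x, hx⟩ = 1 ↔ (⟨x, hx⟩ : normalizer ((zpowers w : Subgroup G) : Set G)) ∈ φ.ker := Iff.rfl
    rw [h1, normalizerMonoidHom_ker, mem_subgroupOf, mem_centralizer_iff]
    constructor
    · intro h4
      exact (h4 w (mem_zpowers w)).symm
    · rintro h4 _ ⟨k, rfl⟩
      exact ((show Commute x w from h4).zpow_right k).eq.symm
  have h18 : Nat.card φ.range ∣ 18 := by
    rw [← hc]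
    exact card_subgroup_dvd_card _
  have hdvd : ∀ x, orderOf (φ x) ∣ Nat.card φ.range := by
    intro x
    have h1 : orderOf (⟨φ x, MonoidHom.mem_range.2 ⟨x, rfl⟩⟩ : φ.range) ∣ Nat.card φ.range := orderOf_dvd_natCard _
    rwa [Subgroup.orderOf_mk] at h1
  -- the element `b`
  have h9 : ¬ Nat.card φ.range ∣ 6 := by
    intro h6
    have h1 := (hdvd ⟨b, h.b_mem⟩).trans h6
    rw [orderOf_dvd_iff_pow_eq_one, ← map_pow] at h1
    have h2 : (⟨b, h.b_mem⟩ : normalizer ((zpowers w : Subgroup G) : Set G)) ^ 6 = ⟨b ^ 6, pow_mem h.b_mem 6⟩ := rfl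
    rw [h2, hker] at h1
    have h3 := h.conj_b_pow 6
    rw [h1, mul_inv_cancel_right] at h3
    have h4 : w ^ (6 ^ 6 - 1) = 1 := by
      have h5 : (6 : ℕ) ^ 6 = (6 ^ 6 - 1) + 1 := by norm_num
      rw [h5, pow_succ] at h3
      exact (mul_eq_right.1 h3.symm)
    rw [h.pow_iff] at h4
    revert h4
    norm_num
  have h2 : 2 ∣ Nat.card φ.range := by
    have h1 := hdvd ⟨a, h.a_mem⟩
    have h3 : orderOf (φ ⟨a, h.a_mem⟩) = 2 := by
      have : Fact (Nat.Prime 2) := ⟨Nat.prime_two⟩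
      refine orderOf_eq_prime ?_ ?_
      · rw [← map_pow]
        have h2 : (⟨a, h.a_mem⟩ : normalizer ((zpowers w : Subgroup G) : Set G)) ^ 2 = 1 :=
          Subtype.ext (by show a ^ 2 = 1; rw [pow_two]; exact h.aa)
        rw [h2, map_one]
      · intro h4
        exact h.ninv h.oa h.ow ((hker a h.a_mem).1 h4).symm
    rwa [h3] at h1
  have h18' : Nat.card φ.range = 18 := by
    have hle := Nat.le_of_dvd (by norm_num) h18
    revert h18 h9 h2 hle
    generalize Nat.card φ.range = n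
    intro h18 h9 h2 hle
    interval_cases n <;> revert h18 h9 h2 <;> decide
  have hkc : Nat.card φ.ker = Nat.card (centralizer ({w} : Set G)) := by
    refine Nat.card_congr
      { toFun := fun x => ⟨((x : normalizer ((zpowers w : Subgroup G) : Set G)) : G),
          mem_centralizer_singleton_iff.2 ((hker _ _).1 x.2)⟩
        invFun := fun x => ⟨⟨(x : G), mem_norm (by
          have h1 := mem_centralizer_singleton_iff.1 x.2
          rw [h1, mul_inv_cancel_right]
          exact mem_zpowers w)⟩, (hker _ _).2 (mem_centralizer_singleton_iff.1 x.2)⟩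
        left_inv := fun _ => rfl
        right_inv := fun _ => rfl }
  have h1 : Nat.card φ.ker * Nat.card φ.range = Nat.card (MM w) := by
    have h1 := card_mul_index φ.ker
    rw [index_ker] at h1
    exact h1
  rw [← h1, hkc, h18']

omit h in
/-- a Sylow subgroup of prime order -/
theorem exists_sylow [Finite G] {r : ℕ} (hr : r.Prime) {x : G} (hx : orderOf x = r) (hsq : ¬ r ^ 2 ∣ Nat.card G) :
    ∃ P : Sylow r G, (P : Subgroup G) = zpowers x := by
  have : Fact r.Prime := ⟨hr⟩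
  have hvp : IsPGroup r (zpowers x) := IsPGroup.of_card (n := 1) (by rw [Nat.card_zpowers, hx, pow_one])
  obtain ⟨P, hP⟩ := hvp.exists_le_sylow
  refine ⟨P, (Subgroup.eq_of_le_of_card_ge hP ?_).symm⟩
  obtain ⟨n, hn⟩ := IsPGroup.iff_card.1 P.isPGroup'
  have h3 : n < 2 := by
    by_contra h3
    apply hsq
    refine (pow_dvd_pow r (not_lt.1 h3)).trans ?_
    rw [← hn]
    exact card_subgroup_dvd_card _
  rw [hn, Nat.card_zpowers, hx]
  exact (Nat.pow_le_pow_right hr.pos (by omega : n ≤ 1)).trans (le_of_eq (pow_one r))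

omit h in
theorem index_mod [Finite G] {r : ℕ} (hr : r.Prime) {x : G} (hx : orderOf x = r) (hsq : ¬ r ^ 2 ∣ Nat.card G) :
    (normalizer ((zpowers x : Subgroup G) : Set G)).index ≡ 1 [MOD r] := by
  have : Fact r.Prime := ⟨hr⟩
  obtain ⟨P, hP⟩ := exists_sylow hr hx hsq
  have h1 := card_sylow_modEq_one r G
  rw [P.card_eq_index_normalizer] at h1
  rwa [← hP]

omit h in
/-- elements of order `r` normalising a Sylow subgroup of order `r` -/
theorem mem_of_norm [Finite G] {r : ℕ} (hr : r.Prime) {x y : G} (hx : orderOf x = r) (hsq : ¬ r ^ 2 ∣ Nat.card G)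
    (hy : orderOf y = r) (hn : y ∈ normalizer ((zpowers x : Subgroup G) : Set G)) : y ∈ zpowers x := by
  have : Fact r.Prime := ⟨hr⟩
  obtain ⟨P, hP⟩ := exists_sylow hr hx hsq
  have hvp : IsPGroup r (zpowers y) := IsPGroup.of_card (n := 1) (by rw [Nat.card_zpowers, hy, pow_one])
  have h1 := hvp.inf_normalizer_sylow P
  have h2 : y ∈ zpowers y ⊓ normalizer (P : Set G) := by
    refine ⟨mem_zpowers y, ?_⟩
    show y ∈ normalizer ((P : Subgroup G) : Set G)
    rw [hP]
    exact hn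
  rw [h1, hP] at h2
  exact h2.2

/-- the elements of `M` of order 19 -/
theorem Sit.mem_zpowers {y : G} (hy : y ∈ MM w) (ho : orderOf y = 19) : y ∈ zpowers w := by
  have := h.fin
  exact mem_of_norm (by norm_num) h.ow (by rw [h.card]; exact num19) ho hy

/-- the Sylow subgroups of order `r ≥ 5` of `C(w)` are Sylow subgroups of `G` -/
theorem Sit.sylow_le {r : ℕ} (hr : r.Prime) (h5 : r.Coprime 18) {d : G} (hd : orderOf d = r)
    (hdw : d * w = w * d) : ∃ R : Sylow r G, d ∈ (R : Subgroup G) ∧ ∀ y ∈ (R : Subgroup G), y * w = w * y := by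
  have := h.fin
  have hrF : Fact r.Prime := ⟨hr⟩
  have hvp : IsPGroup r (zpowers d) := IsPGroup.of_card (n := 1) (by rw [Nat.card_zpowers, hd, pow_one])
  obtain ⟨R, hR⟩ := hvp.exists_le_sylow
  have hdR : d ∈ (R : Subgroup G) := hR (Subgroup.mem_zpowers d)
  refine ⟨R, hdR, ?_⟩
  have hnt : Nontrivial ↥(R : Subgroup G) := by
    refine ⟨⟨⟨d, hdR⟩, 1, fun h => ?_⟩⟩
    have h1 : d = 1 := congrArg Subtype.val h
    rw [h1, orderOf_one] at hd
    exact hr.one_lt.ne hd
  have hcn := R.isPGroup'.center_nontrivial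
  obtain ⟨z, hz⟩ : ∃ z : ↥(center ↥(R : Subgroup G)), orderOf z = r := by
    apply exists_prime_orderOf_dvd_card' r
    obtain ⟨n, hn⟩ := IsPGroup.iff_card.1 (R.isPGroup'.to_subgroup (center ↥(R : Subgroup G)))
    have h1 : n ≠ 0 := by
      rintro rfl
      rw [pow_zero] at hn
      exact (Finite.one_lt_card (α := ↥(center ↥(R : Subgroup G)))).ne' hn
    rw [hn]
    exact dvd_pow_self r h1
  have hz' : orderOf ((z : ↥(R : Subgroup G)) : G) = r := by rw [Subgroup.orderOf_coe, Subgroup.orderOf_coe, hz]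
  have hzR : ∀ y ∈ (R : Subgroup G), y * ((z : ↥(R : Subgroup G)) : G) = ((z : ↥(R : Subgroup G)) : G) * y := by
    intro y hy
    exact congrArg Subtype.val (mem_center_iff.1 z.2 ⟨y, hy⟩)
  -- `z` centralises `w`
  have hzM : ((z : ↥(R : Subgroup G)) : G) ∈ MM w :=
    h.cent_le hr hd hdw (mem_centralizer_singleton_iff.2 (hzR d hdR).symm)
  have hzr : ((z : ↥(R : Subgroup G)) : G) ^ r = 1 := by
    have h1 := pow_orderOf_eq_one ((z : ↥(R : Subgroup G)) : G)
    rwa [hz'] at h1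
  have hzw := h.comm_of_coprime hzM (n := r) hzr h5
  intro y hy
  have hyM : y ∈ MM w := h.cent_le hr hz' hzw (mem_centralizer_singleton_iff.2 (hzR y hy))
  obtain ⟨k, hk⟩ := R.isPGroup' ⟨y, hy⟩
  exact h.comm_of_coprime hyM (n := r ^ k) (congrArg Subtype.val hk) (Nat.Coprime.pow_left k h5)

/-- `5, 7 ∤ |C(w)|` -/
theorem Sit.not_dvd {r : ℕ} (hr : r.Prime) (h5 : r.Coprime 18) (hd : r ∣ 92897280) :
    ¬ r ∣ Nat.card (centralizer ({w} : Set G)) := by
  have := h.fin
  have hrF : Fact r.Prime := ⟨hr⟩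
  intro h1
  obtain ⟨⟨d, hdC⟩, hdo⟩ := exists_prime_orderOf_dvd_card' r h1
  rw [Subgroup.orderOf_mk] at hdo
  obtain ⟨R, -, hR⟩ := h.sylow_le hr h5 hdo (mem_centralizer_singleton_iff.1 hdC)
  rw [← h.cinv a h.oa] at hd
  obtain ⟨⟨x, hxC⟩, hxo⟩ := exists_prime_orderOf_dvd_card' r hd
  rw [Subgroup.orderOf_mk] at hxo
  rw [mem_centralizer_singleton_iff] at hxC
  have hvp : IsPGroup r (zpowers x) := IsPGroup.of_card (n := 1) (by rw [Nat.card_zpowers, hxo, pow_one])
  obtain ⟨Q, hQ⟩ := hvp.exists_le_sylow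
  obtain ⟨g, hg⟩ := MulAction.exists_smul_eq G Q R
  have hx : g * x * g⁻¹ ∈ (R : Subgroup G) := by
    rw [← hg]
    exact Subgroup.smul_mem_pointwise_smul x (MulAut.conj g) _ (hQ (Subgroup.mem_zpowers x))
  refine h.prime_free (t := g * a * g⁻¹) hr ?_ (hR _ hx) ?_ ?_
  · rw [← hxo]
    exact MulEquiv.orderOf_eq (MulAut.conj g) x
  · rw [← h.oa]
    exact MulEquiv.orderOf_eq (MulAut.conj g) a
  · calc g * x * g⁻¹ * (g * a * g⁻¹) = g * (x * a) * g⁻¹ := by group
      _ = g * a * g⁻¹ * (g * x * g⁻¹) := by rw [hxC]; group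

/-- the normaliser of a Sylow subgroup of order `r` of `C(w)` -/
theorem Sit.norm_eq {r : ℕ} (hr : r.Prime) (hsq : ¬ r ^ 2 ∣ Nat.card G) {d : G} (hd : orderOf d = r)
    (hdw : d * w = w * d) : normalizer ((zpowers d : Subgroup G) : Set G) = MM w := by
  have := h.fin
  apply le_antisymm
  · intro g hg
    -- `g w g⁻¹` commutes with `d`
    have h1 : g⁻¹ * d * g ∈ zpowers d := by
      have h2 := (mem_normalizer_iff.1 (inv_mem hg) d).1 (Subgroup.mem_zpowers d)
      rwa [inv_inv] at h2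
    obtain ⟨k, hk⟩ := h1
    have h2 : d = g * d ^ k * g⁻¹ := by
      have h3 : d ^ k = g⁻¹ * d * g := hk
      rw [h3]
      group
    have h3 : (g * w * g⁻¹) * d = d * (g * w * g⁻¹) := by
      have h4 : d ^ k * w = w * d ^ k := ((show Commute d w from hdw).zpow_left k).eq
      calc (g * w * g⁻¹) * d = (g * w * g⁻¹) * (g * d ^ k * g⁻¹) := by rw [← h2]
        _ = g * (w * d ^ k) * g⁻¹ := by group
        _ = (g * d ^ k * g⁻¹) * (g * w * g⁻¹) := by rw [← h4]; group
        _ = d * (g * w * g⁻¹) := by rw [← h2]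
    have h4 : g * w * g⁻¹ ∈ MM w := h.cent_le hr hd hdw (mem_centralizer_singleton_iff.2 h3)
    have h5 : orderOf (g * w * g⁻¹) = 19 := by
      rw [← h.ow]
      exact MulEquiv.orderOf_eq (MulAut.conj g) w
    exact mem_norm (h.mem_zpowers h4 h5)
  · intro g hg
    -- `g d g⁻¹` commutes with `w`
    have h1 : g⁻¹ * w * g ∈ zpowers w := by
      have h2 := (mem_normalizer_iff.1 (inv_mem hg) w).1 (Subgroup.mem_zpowers w)
      rwa [inv_inv] at h2
    obtain ⟨k, hk⟩ := h1
    have h2 : w = g * w ^ k * g⁻¹ := by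
      have h3 : w ^ k = g⁻¹ * w * g := hk
      rw [h3]
      group
    have h3 : (g * d * g⁻¹) * w = w * (g * d * g⁻¹) := by
      have h4 : d * w ^ k = w ^ k * d := ((show Commute d w from hdw).zpow_right k).eq
      calc (g * d * g⁻¹) * w = (g * d * g⁻¹) * (g * w ^ k * g⁻¹) := by rw [← h2]
        _ = g * (d * w ^ k) * g⁻¹ := by group
        _ = (g * w ^ k * g⁻¹) * (g * d * g⁻¹) := by rw [h4]; group
        _ = w * (g * d * g⁻¹) := by rw [← h2]
    have h4 := h.comm h3 hdw
    have h5 : orderOf (g * d * g⁻¹) = r := by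
      rw [← hd]
      exact MulEquiv.orderOf_eq (MulAut.conj g) d
    apply mem_norm
    apply mem_of_norm hr hd hsq h5
    apply mem_norm
    rw [h4, mul_inv_cancel_right]
    exact Subgroup.mem_zpowers d

omit h in
theorem num_final' : ∀ (i : Fin 9) (j k : Fin 2),
    ((265339017216000 / (3 ^ (i : ℕ) * (13 ^ (j : ℕ) * 31 ^ (k : ℕ)))) % 19 = 1 ∧
    ((j : ℕ) = 1 → (265339017216000 / (3 ^ (i : ℕ) * (13 ^ (j : ℕ) * 31 ^ (k : ℕ)))) % 13 = 1) ∧
    ((k : ℕ) = 1 → (265339017216000 / (3 ^ (i : ℕ) * (13 ^ (j : ℕ) * 31 ^ (k : ℕ)))) % 31 = 1)) →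
    (i : ℕ) = 0 ∧ (j : ℕ) = 0 ∧ (k : ℕ) = 0 := by decide +kernel

omit h in
theorem num_final (i j k : ℕ) (hi : i < 9) (hj : j < 2) (hk : k < 2)
    (h1 : (265339017216000 / (3 ^ i * (13 ^ j * 31 ^ k))) % 19 = 1)
    (h2 : j = 1 → (265339017216000 / (3 ^ i * (13 ^ j * 31 ^ k))) % 13 = 1)
    (h3 : k = 1 → (265339017216000 / (3 ^ i * (13 ^ j * 31 ^ k))) % 31 = 1) : i = 0 ∧ j = 0 ∧ k = 0 :=
  num_final' ⟨i, hi⟩ ⟨j, hj⟩ ⟨k, hk⟩ ⟨h1, h2, h3⟩

/-- **`|C(w)| = 19`** -/
theorem Sit.card_eq : Nat.card (centralizer ({w} : Set G)) = 19 := by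
  have := h.fin
  set c := Nat.card (centralizer ({w} : Set G)) with hc
  have h19 : 19 ∣ c := by
    rw [hc, ← h.ow, ← Subgroup.orderOf_mk w (mem_centralizer_singleton_iff.2 rfl)]
    exact orderOf_dvd_natCard _
  obtain ⟨m, hm⟩ := h19
  have hidx : m * (MM w).index = 265339017216000 := by
    have h1 := card_mul_index (MM w)
    rw [h.card_MM, h.card, ← hc, hm] at h1
    have h2 : (342 : ℕ) * (m * (MM w).index) = 342 * 265339017216000 := by
      rw [← mul_assoc]
      norm_num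
      rw [← h1]
      ring
    exact Nat.eq_of_mul_eq_mul_left (by norm_num) h2
  have h5 : ¬ 5 ∣ m := fun h1 => h.not_dvd (r := 5) (by norm_num) (by norm_num) (by norm_num) (by
    rw [← hc, hm]; exact h1.mul_left 19)
  have h7 : ¬ 7 ∣ m := fun h1 => h.not_dvd (r := 7) (by norm_num) (by norm_num) (by norm_num) (by
    rw [← hc, hm]; exact h1.mul_left 19)
  have h2 : ¬ 2 ∣ m := by
    intro h1
    have : Fact (Nat.Prime 2) := ⟨Nat.prime_two⟩
    have h3 : 2 ∣ c := by rw [hm]; exact h1.mul_left 19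
    obtain ⟨⟨t, htC⟩, ht⟩ := exists_prime_orderOf_dvd_card' 2 h3
    rw [Subgroup.orderOf_mk] at ht
    exact h.ninv ht h.ow (mem_centralizer_singleton_iff.1 htC).symm
  have hmd : m ∣ 3 ^ 8 * (13 * 31) := by
    have h1 : m ∣ (2 ^ 14 * (5 ^ 3 * 7 ^ 2)) * (3 ^ 8 * (13 * 31)) := by
      have h3 : ((2 ^ 14 * (5 ^ 3 * 7 ^ 2)) * (3 ^ 8 * (13 * 31)) : ℕ) = 265339017216000 := by norm_num
      rw [h3, ← hidx]
      exact dvd_mul_right _ _
    refine Nat.Coprime.dvd_of_dvd_mul_left ?_ h1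
    have c2 : m.Coprime 2 := ((Nat.Prime.coprime_iff_not_dvd Nat.prime_two).2 h2).symm
    have c5 : m.Coprime 5 := ((Nat.Prime.coprime_iff_not_dvd Nat.prime_five).2 h5).symm
    have c7 : m.Coprime 7 := ((Nat.Prime.coprime_iff_not_dvd (by norm_num)).2 h7).symm
    exact Nat.Coprime.mul_right (c2.pow_right 14) (Nat.Coprime.mul_right (c5.pow_right 3) (c7.pow_right 2))
  obtain ⟨m1, m2, hm1, hm2, rfl⟩ := (Nat.dvd_mul).1 hmd
  obtain ⟨m3, m4, hm3, hm4, rfl⟩ := (Nat.dvd_mul).1 hm2
  obtain ⟨i, hi, rfl⟩ := (Nat.dvd_prime_pow Nat.prime_three).1 hm1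
  obtain ⟨j, hj, rfl⟩ := (Nat.dvd_prime_pow (show Nat.Prime 13 by norm_num)).1 (show m3 ∣ 13 ^ 1 by simpa using hm3)
  obtain ⟨k, hk, rfl⟩ := (Nat.dvd_prime_pow (show Nat.Prime 31 by norm_num)).1 (show m4 ∣ 31 ^ 1 by simpa using hm4)
  have hpos : 0 < 3 ^ i * (13 ^ j * 31 ^ k) := by positivity
  have hI : (MM w).index = 265339017216000 / (3 ^ i * (13 ^ j * 31 ^ k)) := by
    rw [← hidx, Nat.mul_div_cancel_left _ hpos]
  have key : ∀ r : ℕ, r.Prime → ¬ r ^ 2 ∣ Nat.card G → r ∣ 3 ^ i * (13 ^ j * 31 ^ k) → (MM w).index % r = 1 % r := by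
    intro r hr hsq hrm
    have : Fact r.Prime := ⟨hr⟩
    have h1 : r ∣ c := by rw [hm]; exact hrm.mul_left 19
    obtain ⟨⟨d, hdC⟩, hd⟩ := exists_prime_orderOf_dvd_card' r h1
    rw [Subgroup.orderOf_mk] at hd
    have h2 := index_mod hr hd hsq
    rw [h.norm_eq hr hsq hd (mem_centralizer_singleton_iff.1 hdC)] at h2
    exact h2
  have hf := num_final i j k (by omega) (by omega) (by omega) (by
    rw [← hI]
    have h1 := index_mod (G := G) (r := 19) (by norm_num) h.ow (by rw [h.card]; exact num19)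
    exact h1) (by
    rintro rfl
    rw [← hI]
    exact key 13 (by norm_num) (by rw [h.card]; norm_num) (by
      rw [pow_one]; exact (dvd_mul_right 13 _).mul_left _)) (by
    rintro rfl
    rw [← hI]
    exact key 31 (by norm_num) (by rw [h.card]; norm_num) (by
      rw [pow_one]; exact (dvd_mul_left 31 _).mul_left _))
  obtain ⟨rfl, rfl, rfl⟩ := hf
  rw [hm]
  norm_num

/-- **elements of prime order `≠ 19` have centralisers of order not divisible by 19** -/
theorem Sit.main {x : G} (hx : x ≠ 1) (hx19 : ¬ 19 ∣ orderOf x) : ¬ 19 ∣ Nat.card (centralizer ({x} : Set G)) := by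
  have := h.fin
  have : Fact (Nat.Prime 19) := ⟨by norm_num⟩
  intro h1
  obtain ⟨⟨v, hvC⟩, hv⟩ := exists_prime_orderOf_dvd_card' 19 h1
  rw [Subgroup.orderOf_mk] at hv
  rw [mem_centralizer_singleton_iff] at hvC
  obtain ⟨P, hP⟩ := exists_sylow (G := G) (r := 19) (by norm_num) h.ow (by rw [h.card]; exact num19)
  obtain ⟨Q, hQ⟩ := exists_sylow (G := G) (r := 19) (by norm_num) hv (by rw [h.card]; exact num19)
  obtain ⟨g, hg⟩ := MulAction.exists_smul_eq G Q P
  -- `g v g⁻¹ ∈ ⟨w⟩`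
  have h2 : g * v * g⁻¹ ∈ zpowers w := by
    rw [← hP, ← hg]
    refine Subgroup.smul_mem_pointwise_smul v (MulAut.conj g) _ ?_
    rw [hQ]
    exact Subgroup.mem_zpowers v
  have h3 : w ∈ zpowers (g * v * g⁻¹) := by
    have h4 : zpowers (g * v * g⁻¹) = zpowers w := by
      refine Subgroup.eq_of_le_of_card_ge (by rwa [zpowers_le]) ?_
      rw [Nat.card_zpowers, Nat.card_zpowers, h.ow, ← hv]
      exact le_of_eq (MulEquiv.orderOf_eq (MulAut.conj g) v).symm
    rw [h4]
    exact Subgroup.mem_zpowers w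
  obtain ⟨k, hk⟩ := h3
  have h5 : (g * x * g⁻¹) * w = w * (g * x * g⁻¹) := by
    have h6 : (g * v * g⁻¹) ^ k = w := hk
    have h7 : Commute (g * x * g⁻¹) (g * v * g⁻¹) := by
      show g * x * g⁻¹ * (g * v * g⁻¹) = g * v * g⁻¹ * (g * x * g⁻¹)
      calc g * x * g⁻¹ * (g * v * g⁻¹) = g * (x * v) * g⁻¹ := by group
        _ = g * v * g⁻¹ * (g * x * g⁻¹) := by rw [← hvC]; group
    rw [← h6]
    exact (h7.zpow_right k).eq
  have h6 : orderOf (g * x * g⁻¹) ∣ 19 := by
    rw [← h.card_eq, ← Subgroup.orderOf_mk _ (mem_centralizer_singleton_iff.2 h5)]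
    exact orderOf_dvd_natCard _
  have h7 : orderOf (g * x * g⁻¹) = orderOf x := MulEquiv.orderOf_eq (MulAut.conj g) x
  rw [h7] at h6
  rcases (Nat.dvd_prime (by norm_num)).1 h6 with h8 | h8
  · exact hx (orderOf_eq_one_iff.1 h8)
  · exact hx19 (by rw [h8])

end

end Cfsg.Agent.H574.NinCent
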