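import Cfsg.Agent.H574.NinTh
import Cfsg.Agent.H574.NinCent
import Cfsg.Agent.H964.NoHall.RowTh
import Cfsg.Agent.H568.RowCrit

/-!
# The row of S4329 for the Thompson group (helper574)

`th_nineteen` : `C(w) = ⟨w⟩` for `w` of order 19; `row_th`.
-/

set_option autoImplicit false

namespace Cfsg.Agent.H574.RowTh

open Subgroup Cfsg
open Cfsg.Agent.Th Cfsg.Agent.Th.IndexUpper
open Cfsg.Agent.H964.NoHall Cfsg.Agent.H574.NinCent

/-- the hypotheses of `NinCent` -/
theorem sit : Sit (thE thW) (thE (.g .a)) (thE thH) := by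
  have hfin : Finite Spor.Th := KFacts.Th.Main.finite
  have hC := KFacts.Th.Main.ctx
  have hone := CpAutTh.Main.hone
  refine ⟨hC.card, thW_order, fun t ht => CpAutTh.Mid.card_cent hC hone ht,
    fun x s hx hs hsx => NinTh.even_case hC hone hx hs hsx, ?_, thA_conj, thH_conj⟩
  have : Fact (Nat.Prime 2) := ⟨Nat.prime_two⟩
  apply orderOf_eq_prime
  · have h := thE_eq thA_2
    rwa [thE_pow, thE_one] at h
  · have h := thE_ne thA_ne
    rwa [thE_one] at h

/-- an element of order 19 commutes only with its powers -/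
theorem th_nineteen {x : Spor.Th} (hx : x ≠ 1) (hx19 : ¬ 19 ∣ orderOf x) :
    ¬ 19 ∣ Nat.card (centralizer ({x} : Set Spor.Th)) := sit.main hx hx19

theorem row_model {p : ℕ} [hp : Fact p.Prime] (hp2 : p ≠ 2) : H568.Row p Spor.Th := by
  have hfin : Finite Spor.Th := KFacts.Th.Main.finite
  have hs : IsSimpleGroup Spor.Th := CpAutTh.Main.simple
  have hZ := CpAutTh.Main.center_eq
  have hcard : Nat.card Spor.Th = 90745943887872000 := KFacts.Th.Main.ctx.card
  have hinn : ∀ a : MulAut Spor.Th, ∃ s : Spor.Th, a = MulAut.conj s := KFacts.Th.Main.inner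
  by_cases h357 : p = 3 ∨ p = 5 ∨ p = 7
  · refine H966.SporCrit.row_of_primes hZ (fun a _ => hinn a) fun s hs => ?_
    refine ⟨19, by norm_num, by rw [hcard]; norm_num, by omega, ?_, ?_⟩
    · intro k hk h1
      rw [hcard] at h1
      exact num_ord hp.1 hk h1
    · refine th_nineteen ?_ ?_
      · rintro rfl
        rw [orderOf_one] at hs
        exact hp.1.one_lt.ne hs
      · rw [hs]
        rcases h357 with rfl | rfl | rfl <;> norm_num
  · intro a ha
    obtain ⟨s, hs⟩ := hinn a
    have hps : orderOf s = p := by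
      rw [← ha, hs]
      symm
      refine orderOf_injective (MulAut.conj : Spor.Th →* MulAut Spor.Th) ?_ s
      rw [← MonoidHom.ker_eq_bot_iff, ← hZ]
      ext x
      rw [MonoidHom.mem_ker, mem_center_iff]
      constructor
      · intro h y
        have h1 : MulAut.conj x y = y := by rw [h]; rfl
        rw [MulAut.conj_apply, mul_inv_eq_iff_eq_mul] at h1
        exact h1.symm
      · intro h
        ext y
        rw [MulAut.conj_apply, ← h y, mul_inv_cancel_right]
        rfl
    have hdvd : p ∣ Nat.card Spor.Th := hps ▸ orderOf_dvd_natCard s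
    have hpr := prime_of_dvd' hp.1 (hcard ▸ hdvd)
    have hsq : ¬ p ^ 2 ∣ Nat.card Spor.Th := by
      rw [hcard]
      have : p = 13 ∨ p = 19 ∨ p = 31 := by omega
      rcases this with rfl | rfl | rfl <;> norm_num
    obtain ⟨P, hP⟩ := exists_sylow hp.1 hps hsq
    obtain ⟨x, hx⟩ := H568.exists_noNorm_of_cyclic CpAutTh.Main.noncomm hdvd P (by rw [hP]; infer_instance)
    exact ⟨x, hx.not_dvd, H568.avoid_inner hZ ha hs hx⟩

/-- **The row of Th.** -/
theorem row_th {K : Type*} [Group K] (h : Spor.IsoTh K) {p : ℕ} [Fact p.Prime] (hp : p ≠ 2) : H568.Row p K := by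
  obtain ⟨e⟩ := h
  exact (row_model hp).congr e.symm

end Cfsg.Agent.H574.RowTh
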