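import Cfsg.Agent.H574.ExcE8Five
import Cfsg.Agent.H169.ExcOrd

/-!
# `PairN t 5 E₈(q)`, `q² ≡ -1 (mod 5)`: the torus and the row (helper574, S4350)

* `card_TG` : `n ^ 4` divides the order of the torus, `n ∣ q² + 1`;
* `pairN_E8_five` : `PairN t 5 E₈(q)` for `t ≥ 7`, `5 ∣ q² + 1`.
-/

set_option autoImplicit false
set_option linter.unusedSectionVars false

namespace Cfsg.Agent.H574.ExcE8Five

open CoxeterSystem Cfsg Cfsg.Lie Cfsg.Lie.ChevalleyDatum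
open Cfsg.Agent.ChevalleyStructure Cfsg.Agent.ChevalleyStructure.Elts Cfsg.Agent.ChevalleyStructure.CoxeterGeom
  Cfsg.Agent.ChevalleyStructure.CoxeterGeomTypes Cfsg.Agent.ChevalleyStructure.NPerm
open Cfsg.Agent.Tits.Roots Cfsg.Agent.Tits.Core Cfsg.Agent.Nodes Cfsg.Agent.Nodes.Reps Cfsg.Agent.Nodes.BNOf
  Cfsg.Agent.Nodes.RGDChev Cfsg.Agent.Nodes.Bruhat
open Cfsg.Agent.KFacts.RgdField Cfsg.Agent.KFacts.RgdChevCoord Cfsg.Agent.BpExc.TorCent Cfsg.Agent.BpExc.TorChev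
open Cfsg.Agent.GpExc.Field Cfsg.Agent.BpExc.Tow Cfsg.Agent.BpExc.TowChev Cfsg.Agent.BpExc.Fr
  Cfsg.Agent.BpExc.LangFr Cfsg.Agent.H129.TorusChar Cfsg.Agent.H129.TorusMain Cfsg.Agent.H123.ExcZ
open Cfsg.Agent.BpExc Cfsg.Agent.H795.LangT Cfsg.Agent.H795.Core Cfsg.Agent.H795.NotAbT
  Cfsg.Agent.H795.NotAbCert Cfsg.Agent.H795.NotAbData Cfsg.Agent.BpExc.RowsUntw Cfsg.Agent.H129.WData
  Cfsg.Agent.H795.Untw
open Cfsg.Agent.H129.TorusUntw (phi isFrob_phi fr_phi phi_emb coe_phi fix_range fix_split exists_closure)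
open Cfsg.Agent.H572.ExcA Cfsg.Agent.H572.ExcB Cfsg.Agent.H572.ExcC Cfsg.Agent.H572.LatQ Cfsg.Agent.H572.LatForm
  Cfsg.Agent.H572.HallCore Cfsg.Agent.H572.HallPair Cfsg.Agent.H574.ExcE8FiveA
open Cfsg.Agent.H553.OddHall
open Subgroup

universe u v

variable {k : Type u} [Field k] [IsAlgClosed k] {hk : LocFin k} {r e : ℕ} [Fact r.Prime] [CharP k r]
  {G : Type v} [Group G] {κ : G →* ↥(chevE8.group k)}

/-- `θ` as an automorphism -/
noncomputable abbrev thE : (Fin 8 → ℤ) ≃+ (Fin 8 → ℤ) := thEq e8T E8.u5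

theorem thE_apply (x : Fin 8 → ℤ) : thE x = th x := thEq_apply E8.u5 x

/-- the character with given exponents -/
theorem isMC_zpow {ζ : k} (h0 : ζ ≠ 0) (f : (Fin 8 → ℤ) →+ ℤ) : IsMC (fun x => ζ ^ (f x)) where
  zero := by rw [map_zero, zpow_zero]
  add x y := by rw [map_add, zpow_add₀ h0]

theorem zpow_eq_of_dvd {n : ℕ} {ζ : k} (hζ : IsPrimitiveRoot ζ n) (h0 : ζ ≠ 0) {a b : ℤ} (h : (n : ℤ) ∣ a - b) :
    ζ ^ a = ζ ^ b := by
  have h1 : ζ ^ (a - b) = 1 := (hζ.zpow_eq_one_iff_dvd _).2 h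
  rw [zpow_sub₀ h0, div_eq_one_iff_eq (zpow_ne_zero _ h0)] at h1
  exact h1

variable {τ : MulAut ↥(chevE8.group k)}

/-- **the order of the torus** -/
theorem card_TG [Finite G] {n : ℕ} [NeZero n] {ζ : k} (hζ : IsPrimitiveRoot ζ n) (hinj : Function.Injective κ)
    (hfr : IsFrob r e τ)
    (F : Fr CoxeterMatrix.E₈.toCoxeterSystem e8T.isCartan (TT chevE8 k) (XX chevE8 8 k) τ thE)
    (hfull : ∀ y, τ y = y → ∃ x, κ x = y) (hn : (n : ℤ) ∣ ((r ^ e : ℕ) : ℤ) ^ 2 + 1) : n ^ 4 ∣ Nat.card (TG κ) := by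
  classical
  have h0 : ζ ≠ 0 := hζ.ne_zero (NeZero.ne n)
  let H : Subgroup G :=
    { carrier := {x | x ∈ TG κ ∧ x ^ n = 1}
      one_mem' := ⟨one_mem _, one_pow _⟩
      mul_mem' := by
        rintro a b ⟨ha, ha'⟩ ⟨hb, hb'⟩
        refine ⟨mul_mem ha hb, ?_⟩
        rw [(show Commute a b from TG_comm κ hinj e8T ha hb).mul_pow, ha', hb', one_mul]
      inv_mem' := by
        rintro a ⟨ha, ha'⟩
        exact ⟨inv_mem ha, by rw [inv_pow, ha', inv_one]⟩ }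
  have hHT : H ≤ TG κ := fun x hx => hx.1
  refine dvd_trans ?_ (Subgroup.card_dvd_of_le hHT)
  have hpow : ∀ (x : H) (v : Fin 8 → ℤ), cX e8T (κ x) v ^ n = 1 := by
    intro x v
    rw [← cX_pow e8T x.2.1, ← map_pow, x.2.2, map_one, cX_one]
  let ev : H →* (Fin 4 → rootsOfUnity n k) :=
    { toFun := fun x j => rootsOfUnity.mkOfPowEq (cX e8T (κ x) (sr (cidx j))) (hpow x _)
      map_one' := by
        funext j
        apply Subtype.ext
        apply Units.ext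
        show cX e8T (κ ((1 : H) : G)) (sr (cidx j)) = 1
        rw [Subgroup.coe_one, map_one, cX_one]
      map_mul' := fun x y => by
        funext j
        apply Subtype.ext
        apply Units.ext
        show cX e8T (κ ((x * y : H) : G)) (sr (cidx j)) = cX e8T (κ x) (sr (cidx j)) * cX e8T (κ y) (sr (cidx j))
        rw [Subgroup.coe_mul, map_mul, cX_mul e8T x.2.1 y.2.1] }
  have hsurj : Function.Surjective ev := by
    intro ω
    have h1 : ∀ j, ∃ c : ℕ, ζ ^ c = ((ω j : kˣ) : k) := by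
      intro j
      have h2 : ((ω j : kˣ) : k) ^ n = 1 := by
        have h3 := (mem_rootsOfUnity n (ω j : kˣ)).1 (ω j).2
        rw [← Units.val_pow_eq_pow_val, h3, Units.val_one]
      obtain ⟨i, -, hi⟩ := hζ.eq_pow_of_pow_eq_one h2
      exact ⟨i, hi⟩
    choose c hc using h1
    have hφ : IsMC (fun x => ζ ^ (dot (cvec (fun j => (c j : ℤ)) ((r ^ e : ℕ) : ℤ)) x)) := isMC_zpow h0 _
    obtain ⟨a, ha, hax⟩ := exists_TG (hp := e8T) (κ := κ) invC_E8 one_ne_zero hfr F hfull hφ (fun x => by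
      show ζ ^ _ = (ζ ^ _) ^ (r ^ e)
      rw [thE_apply, ← zpow_natCast (ζ ^ _), ← zpow_mul]
      apply zpow_eq_of_dvd hζ h0
      rw [dot_cvec_th]
      have h2 : ((r ^ e : ℕ) : ℤ) * dot (cvec (fun j => (c j : ℤ)) ((r ^ e : ℕ) : ℤ)) x -
          (((r ^ e : ℕ) : ℤ) ^ 2 + 1) * (∑ t, x t * ∑ i, (c i : ℤ) * gv i t) -
          dot (cvec (fun j => (c j : ℤ)) ((r ^ e : ℕ) : ℤ)) x * ((r ^ e : ℕ) : ℤ) =
          -((((r ^ e : ℕ) : ℤ) ^ 2 + 1) * (∑ t, x t * ∑ i, (c i : ℤ) * gv i t)) := by ring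
      rw [h2, dvd_neg]
      exact Dvd.dvd.mul_right hn _)
    have han : a ^ n = 1 := by
      apply hinj
      rw [map_pow, map_one]
      refine cX_inj e8T (pow_mem (show κ a ∈ TT chevE8 k from ha) n) (one_mem _) fun i => ?_
      rw [cX_pow e8T ha, hax, cX_one, ← zpow_natCast, ← zpow_mul, mul_comm, zpow_mul, zpow_natCast, hζ.pow_eq_one,
        one_zpow]
    refine ⟨⟨a, ha, han⟩, ?_⟩
    funext j
    apply Subtype.ext
    apply Units.ext
    show cX e8T (κ a) (sr (cidx j)) = _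
    rw [hax, dot_sr, cvec_idx, zpow_natCast, hc]
  have h1 : n ^ 4 = Nat.card (Fin 4 → rootsOfUnity n k) := by
    rw [Nat.card_pi, Finset.prod_const, Finset.card_univ, Fintype.card_fin, hζ.card_rootsOfUnity]
  rw [h1]
  exact Subgroup.card_dvd_of_surjective ev hsurj

/-- the test elements -/
theorem exists_test {q0 : ℤ} (hq : ((5 : ℕ) : ℤ) ∣ q0 ^ 2 + 1) (hqr : ((5 : ℕ) : ℤ) ∣ ((r ^ e : ℕ) : ℤ) - q0)
    {ζ : k} (hζ : IsPrimitiveRoot ζ 5) (hinj : Function.Injective κ) (hfr : IsFrob r e τ)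
    (F : Fr CoxeterMatrix.E₈.toCoxeterSystem e8T.isCartan (TT chevE8 k) (XX chevE8 8 k) τ thE)
    (hfull : ∀ y, τ y = y → ∃ x, κ x = y) (y : Fin 8 → ℤ) :
    ∃ a ∈ TG κ, a ^ 5 = 1 ∧ ∀ x, cX e8T (κ a) x = ζ ^ (BE x (th y - q0 • y)) := by
  have h0 : ζ ≠ 0 := hζ.ne_zero (by norm_num)
  let f : (Fin 8 → ℤ) →+ ℤ := formHom isFormE (th y - q0 • y)
  obtain ⟨a, ha, hax⟩ := exists_TG (hp := e8T) (κ := κ) invC_E8 one_ne_zero hfr F hfull (isMC_zpow h0 f) (fun x => by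
    show ζ ^ (formHom isFormE (th y - q0 • y) (thE x)) = (ζ ^ (formHom isFormE (th y - q0 • y) x)) ^ (r ^ e)
    rw [thE_apply, formHom_apply, formHom_apply]
    rw [← zpow_natCast (ζ ^ _), ← zpow_mul]
    apply zpow_eq_of_dvd hζ h0
    rw [BE_th]
    have h2 : q0 * BE x (th y - q0 • y) + (q0 ^ 2 + 1) * BE x y - BE x (th y - q0 • y) * ((r ^ e : ℕ) : ℤ) =
        (q0 ^ 2 + 1) * BE x y - (((r ^ e : ℕ) : ℤ) - q0) * BE x (th y - q0 • y) := by ring
    rw [h2]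
    exact dvd_sub (Dvd.dvd.mul_right hq _) (Dvd.dvd.mul_right hqr _))
  refine ⟨a, ha, ?_, hax⟩
  apply hinj
  rw [map_pow, map_one]
  refine cX_inj e8T (pow_mem (show κ a ∈ TT chevE8 k from ha) 5) (one_mem _) fun i => ?_
  rw [cX_pow e8T ha, hax, cX_one, ← zpow_natCast, ← zpow_mul, mul_comm, zpow_mul, zpow_natCast, hζ.pow_eq_one,
    one_zpow]

theorem u5_comm_u4 (x : Fin 8 → ℤ) : rep CoxeterMatrix.E₈.toCoxeterSystem e8T.isCartan E8.u4
      (rep CoxeterMatrix.E₈.toCoxeterSystem e8T.isCartan E8.u5 ((AddEquiv.refl (Fin 8 → ℤ)) x)) =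
      rep CoxeterMatrix.E₈.toCoxeterSystem e8T.isCartan E8.u5 ((AddEquiv.refl (Fin 8 → ℤ))
        (rep CoxeterMatrix.E₈.toCoxeterSystem e8T.isCartan E8.u4 x)) :=
  comm_of Cfsg.Agent.H795.NotAbRows.refl_mat (E8.is_u5 e8T) (E8.is_u4 e8T) E8.five2.1 E8.five2.2.1 x

theorem u4_ne_one : E8.u4 ≠ 1 := by
  intro h
  have h1 := E8.is_u4 e8T 0
  rw [h, map_one, Module.End.one_apply] at h1
  have h2 := congrFun h1 1
  revert h2
  rw [sr_apply']
  decide

theorem exists_zeta_pow {a : ℕ} (hr : 5 ≠ r) : ∃ ζ : k, IsPrimitiveRoot ζ (5 ^ a) := by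
  have hdk : ((5 ^ a : ℕ) : k) ≠ 0 := by
    rw [Ne, CharP.cast_eq_zero_iff k r]
    intro h
    exact hr ((Nat.prime_dvd_prime_iff_eq Fact.out Nat.prime_five).1
      ((Fact.out : r.Prime).dvd_of_dvd_pow h)).symm
  have : NeZero ((5 ^ a : ℕ) : k) := ⟨hdk⟩
  exact HasEnoughRootsOfUnity.exists_primitiveRoot k (5 ^ a)

/-- **`PairN t 5 E₈(q)`, `q² ≡ -1 (mod 5)`**, from the order of the group. -/
theorem pairN_of_ord {F : Type u} [Field F] [Fintype F] (h5 : 5 ∣ Fintype.card F ^ 2 + 1) {a : ℕ}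
    (ha : 5 ^ a ∣ Fintype.card F ^ 2 + 1) (hord : ¬ 5 ^ (4 * a + 2) ∣ Nat.card ↥(chevE8.group F)) {t : ℕ}
    (ht : t.Prime) (ht7 : 7 ≤ t) : PairN t 5 ↥(chevE8.group F) := by
  classical
  obtain ⟨r, e, hr, hrF, hrk, he, hq, hk⟩ := exists_closure (F := F) rfl
  have htf : Fact t.Prime := ⟨ht⟩
  have h5r : 5 ≠ r := by
    rintro rfl
    rw [hq] at h5
    have h1 : 5 ∣ (5 ^ e) ^ 2 := dvd_pow (dvd_pow_self 5 he.ne') two_ne_zero
    have h2 := (Nat.dvd_add_right h1).1 h5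
    omega
  have hGf : Finite ↥(chevE8.group F) := inferInstance
  have hset := Cfsg.Agent.H795.NotAbRows.setup_untw_all (D := chevE8) (M := CoxeterMatrix.E₈) e8T hk
    (algebraMap F (AlgebraicClosure F)) he hq invC_E8 one_ne_zero (fun b => ⟨b, pow_one b⟩) 5
  obtain ⟨n, z, hn, hz, hτ, Fτ⟩ := exists_tau (D := chevE8) (M := CoxeterMatrix.E₈) e8T hk hset.e_pos hset.frob
    hset.fr E8.u5
  obtain ⟨m, hm, hτm⟩ := exists_lift_tau e8T hk invC_E8 one_ne_zero hset.e_pos hset.frob hset.fr hτ Fτ u5_comm_u4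
  set σ := phi chevE8 (AlgebraicClosure F) r e with hσdef
  set τ : MulAut ↥(chevE8.group (AlgebraicClosure F)) := MulAut.conj n * σ with hτdef
  have hτ' : ∀ u, τ u = n * σ u * n⁻¹ := fun u => rfl
  let κ : ↥(chevE8.group F) →* ↥(chevE8.group (AlgebraicClosure F)) :=
    (MulAut.conj z⁻¹).toMonoidHom.comp (emb e8T.inList (algebraMap F (AlgebraicClosure F)))
  have hκ : ∀ x, κ x = z⁻¹ * emb e8T.inList (algebraMap F (AlgebraicClosure F)) x * z⁻¹⁻¹ := fun x => rfl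
  have hinj : Function.Injective κ := (MulAut.conj z⁻¹).injective.comp hset.inj
  have hfix : ∀ x, τ (κ x) = κ x := by
    intro x
    rw [hτ', hκ, map_mul, map_mul, map_inv, map_inv, map_inv, hset.fix, hz]
    group
  have hfull : ∀ y, τ y = y → ∃ x, κ x = y := by
    intro y hy
    have h1 := fix_conj hz (u := y) (by rw [← hτ']; exact hy)
    obtain ⟨x, hx⟩ := fix_range e8T CoxeterMatrix.E₈.toCoxeterSystem (algebraMap F (AlgebraicClosure F)) hq invC_E8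
      one_ne_zero (fun b => ⟨b, pow_one b⟩) h1
    refine ⟨x, ?_⟩
    rw [hκ, hx]
    group
  have hfin : Finite {y : ↥(chevE8.group (AlgebraicClosure F)) // τ y = y} := by
    have := hset.fin
    refine Finite.of_injective (fun y : {y : ↥(chevE8.group (AlgebraicClosure F)) // τ y = y} =>
      (⟨z * y.1 * z⁻¹, fix_conj hz (by rw [← hτ']; exact y.2)⟩ :
        {y : ↥(chevE8.group (AlgebraicClosure F)) // σ y = y})) ?_
    intro y y' hyy
    have h1 : z * y.1 * z⁻¹ = z * y'.1 * z⁻¹ := congrArg Subtype.val hyy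
    exact Subtype.ext (mul_left_cancel (mul_right_cancel h1))
  have hemb : Emb e8T r e κ τ thE := ⟨hinj, he, hτ, Fτ, hfix, hfin⟩
  -- the residue
  obtain ⟨q0, hq0⟩ : ∃ q0 : ℤ, q0 = ((r ^ e : ℕ) : ℤ) := ⟨_, rfl⟩
  have hq05 : ((5 : ℕ) : ℤ) ∣ q0 ^ 2 + 1 := by
    rw [hq0, ← hq]
    exact_mod_cast h5
  -- the torus
  have h1 : 5 ^ (4 * a) ∣ Nat.card (TG κ) := by
    obtain ⟨ζ, hζ⟩ := exists_zeta_pow (k := AlgebraicClosure F) (a := a) h5r
    have : NeZero (5 ^ a) := ⟨pow_ne_zero _ (by norm_num)⟩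
    have h2 := card_TG (κ := κ) hζ hinj hτ Fτ hfull (by rw [← hq]; exact_mod_cast ha)
    rwa [← pow_mul, mul_comm a 4] at h2
  -- the Weyl group
  have h2 : 5 ^ 1 ∣ Nat.card (im e8T hk r κ (NG e8T hk r κ)) := by
    obtain ⟨x, hx⟩ := hfull m hτm
    have h3 : RP e8T hk r E8.u4 (κ x) := by rw [hx]; exact hm
    have h4 : E8.u4 ∈ im e8T hk r κ (NG e8T hk r κ) := ⟨x, ⟨_, h3⟩, h3⟩
    have h5 : orderOf E8.u4 = 5 := orderOf_eq_prime (E8.u4_pow e8T) u4_ne_one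
    rw [pow_one]
    have h6 := Subgroup.orderOf_dvd_natCard (im e8T hk r κ (NG e8T hk r κ)) h4
    rwa [h5] at h6
  obtain ⟨S, hS, hSim⟩ := exists_sylow (hp := e8T) (hk := hk) (r := r) (s := 5) κ h1 h2 hord
  obtain ⟨ζ, hζ⟩ := exists_zeta (k := AlgebraicClosure F) (p := 5) h5r
  have hT : TstE κ e8T ((S : Subgroup ↥(chevE8.group F)) ⊓ TG κ) ζ BE th q0 := by
    intro y
    obtain ⟨b, hb, hb5, hbx⟩ := exists_test (κ := κ) hq05 (by rw [hq0, sub_self]; exact dvd_zero _) hζ hinj hτ Fτ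
      hfull y
    exact ⟨b, ⟨TS_le hinj S hS ⟨hb, 1, by rw [pow_one]; exact hb5⟩, hb⟩, hbx⟩
  have hCT : ∀ w ∈ CT e8T thE, ∀ x, ac e8T w (th x) = th (ac e8T w x) := fun w hw x => mem_CT_thEq hw x
  refine pairN_gen (s := 5) (by norm_num) (by omega) (by omega) hemb invC_E8 one_ne_zero S hS hSim ?_ ?_ ?_
  · refine qcond_eig Nat.prime_five le_rfl inf_le_right hS le_rfl ?_ (fdata (CT e8T thE)) th_iso th_sq hCT
      (not_dvd_two hq05) hζ hT
    rintro w ⟨x, -, hw⟩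
    exact mem_CT_of_fix invC_E8 one_ne_zero hτ Fτ hw (hfix x)
  · intro b hb
    exact reg_of_eig isFormE th_iso th_sq Nat.prime_five (not_dvd_two hq05) hζ hT (normE_root hb)
  · intro H hH hHq _ htH
    have hWf : Finite CoxeterMatrix.E₈.Group := finite_W e8T (CoxeterMatrix.E₈.toCoxeterSystem)
    rcases Nat.lt_or_ge t 8 with h8 | h8
    · have ht' : t = 7 := by omega
      obtain ⟨y, hy⟩ := exists_prime_orderOf_dvd_card' t htH
      have h3 : (y : CoxeterMatrix.E₈.Group) ^ 7 = 1 := by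
        have h4 := pow_orderOf_eq_one y
        rw [hy, ht'] at h4
        exact congrArg Subtype.val h4
      have h4 : (y : CoxeterMatrix.E₈.Group) = 1 := eq_one_seven hq05 (fun x => hCT _ (hH y.2) x) h3
      have h5 : y = 1 := Subtype.ext h4
      rw [h5, orderOf_one] at hy
      exact ht.one_lt.ne hy
    · have h3 : t ∣ 696729600 := by
        rw [← Cfsg.Agent.H795.RowsA.card_E8]
        exact htH.trans (Subgroup.card_subgroup_dvd_card H)
      have h4 : (696729600 : ℕ) = 2 ^ 14 * 3 ^ 5 * 5 ^ 2 * 7 := by norm_num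
      rw [h4, ht.dvd_mul, ht.dvd_mul, ht.dvd_mul] at h3
      rcases h3 with ((h3 | h3) | h3) | h3
      · have := Nat.le_of_dvd (by norm_num) (ht.dvd_of_dvd_pow h3); omega
      · have := Nat.le_of_dvd (by norm_num) (ht.dvd_of_dvd_pow h3); omega
      · have := Nat.le_of_dvd (by norm_num) (ht.dvd_of_dvd_pow h3); omega
      · have := Nat.le_of_dvd (by norm_num) h3; omega

/-- **`PairN t 5 E₈(q)` for `t ≥ 7`, `q² ≡ -1 (mod 5)`.** -/
theorem pairN_E8_five {F : Type u} [Field F] [Fintype F] (h5 : 5 ∣ Fintype.card F ^ 2 + 1) {t : ℕ}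
    (ht : t.Prime) (ht7 : 7 ≤ t) : PairN t 5 ↥(chevE8.group F) := by
  obtain ⟨q, hq⟩ : ∃ q, q = Fintype.card F := ⟨_, rfl⟩
  have hq2 : 2 ≤ q := by
    rw [hq]
    exact Fintype.one_lt_card
  rw [← hq] at h5
  have h0 : q ^ 4 - 1 ≠ 0 := by
    have : 2 ^ 4 ≤ q ^ 4 := Nat.pow_le_pow_left hq2 4
    omega
  have h1 : q ^ 4 - 1 = (q ^ 2 - 1) * (q ^ 2 + 1) := by
    have h2 : 1 ≤ q ^ 2 := Nat.one_le_pow _ _ (by omega)
    obtain ⟨c, hc⟩ := Nat.exists_eq_add_of_le h2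
    have h3 : q ^ 4 = (1 + c) * (1 + c) := by rw [← hc]; ring
    rw [h3, hc, Nat.add_sub_cancel_left]
    have h4 : (1 + c) * (1 + c) = c * (1 + c + 1) + 1 := by ring
    rw [h4, Nat.add_sub_cancel]
  have h2 : (5 ^ (q ^ 4 - 1).factorization 5).Coprime (q ^ 2 - 1) := by
    apply Nat.Coprime.pow_left
    rw [Nat.prime_five.coprime_iff_not_dvd]
    intro h3
    have h2 : 1 ≤ q ^ 2 := Nat.one_le_pow _ _ (by omega)
    omega
  have ha : 5 ^ (q ^ 4 - 1).factorization 5 ∣ q ^ 4 - 1 := Nat.ordProj_dvd _ _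
  have ha' : ¬ 5 ^ ((q ^ 4 - 1).factorization 5 + 1) ∣ q ^ 4 - 1 :=
    Nat.pow_succ_factorization_not_dvd h0 Nat.prime_five
  have ha1 : 1 ≤ (q ^ 4 - 1).factorization 5 := by
    rw [← Nat.prime_five.pow_dvd_iff_le_factorization h0, pow_one, h1]
    exact Dvd.dvd.mul_left h5 _
  have ha2 : 5 ^ (q ^ 4 - 1).factorization 5 ∣ q ^ 2 + 1 := by
    rw [h1] at ha ⊢
    rw [h1] at h2
    exact h2.dvd_of_dvd_mul_left ha
  have hord := Cfsg.Agent.H169.ExcOrd.E8_five_four (F := F) hq.symm ha1 h5 ha ha'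
  rw [hq] at h5 ha2 hord
  exact pairN_of_ord h5 ha2 hord ht ht7

end Cfsg.Agent.H574.ExcE8Five
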