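import Mathlib
import Cfsg.Agent.S2739

/-!
# Elements of order three of `PSL₃(4)` are conjugate
-/

set_option autoImplicit false

namespace Cfsg.Agent.H574.PslThreeFour

open Matrix

variable {F : Type*} [Field F]

theorem two_eq_zero [Fintype F] (hF : Fintype.card F = 4) : (2 : F) = 0 := by
  have h1 : ((4 : ℕ) : F) = 0 := by rw [← hF]; exact Nat.cast_card_eq_zero F
  have h2 : (2 : F) * 2 = 0 := by
    have : (2 : F) * 2 = ((4 : ℕ) : F) := by norm_num
    rw [this, h1]
  rcases mul_eq_zero.1 h2 with h | h <;> exact h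

theorem exists_conj [Fintype F] (hF : Fintype.card F = 4) {x y : ProjectiveSpecialLinearGroup (Fin 3) F}
    (hx : orderOf x = 3) (hy : orderOf y = 3) : ∃ g, g * x * g⁻¹ = y := by
  have h2 := two_eq_zero hF
  let s : SpecialLinearGroup (Fin 3) F := ⟨!![0, 0, 1; 1, 0, 0; 0, 1, 0], by simp [Matrix.det_fin_three]⟩
  let t : SpecialLinearGroup (Fin 3) F := ⟨!![0, 1, 0; 1, 0, 0; 0, 0, 1], by
    simp [Matrix.det_fin_three]
    linear_combination -h2⟩
  have hs3 : s ^ 3 = 1 := by
    apply Subtype.ext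
    rw [pow_succ, pow_two, Matrix.SpecialLinearGroup.coe_mul, Matrix.SpecialLinearGroup.coe_mul]
    ext i j
    fin_cases i <;> fin_cases j <;> simp [s, Matrix.mul_apply, Fin.sum_univ_three]
  have hts : t * s = s * s * t := by
    apply Subtype.ext
    rw [Matrix.SpecialLinearGroup.coe_mul, Matrix.SpecialLinearGroup.coe_mul, Matrix.SpecialLinearGroup.coe_mul]
    ext i j
    fin_cases i <;> fin_cases j <;> simp [s, t, Matrix.mul_apply, Fin.sum_univ_three]
  let σ : ProjectiveSpecialLinearGroup (Fin 3) F := QuotientGroup.mk s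
  let τ : ProjectiveSpecialLinearGroup (Fin 3) F := QuotientGroup.mk t
  have hσ3 : σ ^ 3 = 1 := by
    show (QuotientGroup.mk s : ProjectiveSpecialLinearGroup (Fin 3) F) ^ 3 = 1
    rw [← QuotientGroup.mk_pow, hs3, QuotientGroup.mk_one]
  have hσ1 : σ ≠ 1 := by
    intro h
    have h1 := (QuotientGroup.eq_one_iff s).1 h
    rw [Matrix.SpecialLinearGroup.mem_center_iff] at h1
    obtain ⟨r, -, hr⟩ := h1
    have e1 := congrFun (congrFun hr 0) 2
    simp [s] at e1
  have hσo : orderOf σ = 3 := orderOf_eq_prime hσ3 hσ1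
  have hτσ : τ * σ = σ * σ * τ := by
    show (QuotientGroup.mk t * QuotientGroup.mk s : ProjectiveSpecialLinearGroup (Fin 3) F) =
      QuotientGroup.mk s * QuotientGroup.mk s * QuotientGroup.mk t
    rw [← QuotientGroup.mk_mul, ← QuotientGroup.mk_mul, ← QuotientGroup.mk_mul, hts]
  have key : ∀ x : ProjectiveSpecialLinearGroup (Fin 3) F, orderOf x = 3 → ∃ g, g * x * g⁻¹ = σ := by
    intro x hx
    obtain ⟨g, hg⟩ := Cfsg.Agent.S2739.result F hF (Subgroup.zpowers x) (Subgroup.zpowers σ)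
      (by rw [Nat.card_zpowers, hx]) (by rw [Nat.card_zpowers, hσo])
    have h1 : g * x * g⁻¹ ∈ Subgroup.zpowers σ := by
      rw [← hg]
      exact Subgroup.smul_mem_pointwise_smul x (MulAut.conj g) _ (Subgroup.mem_zpowers x)
    have h2 : g * x * g⁻¹ ∈ Submonoid.powers σ := (mem_powers_iff_mem_zpowers).2 h1
    obtain ⟨n, hn⟩ := h2
    have hn' : σ ^ (n % 3) = g * x * g⁻¹ := by
      have h5 : σ ^ (n % orderOf σ) = σ ^ n := pow_mod_orderOf σ n
      rw [hσo] at h5
      rw [h5]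
      exact hn
    have hlt : n % 3 < 3 := Nat.mod_lt _ (by norm_num)
    interval_cases h : n % 3
    · exfalso
      rw [pow_zero] at hn'
      have : x = 1 := by
        calc x = g⁻¹ * (g * x * g⁻¹) * g := by group
          _ = 1 := by rw [← hn']; group
      rw [this, orderOf_one] at hx
      omega
    · exact ⟨g, by rw [← hn', pow_one]⟩
    · refine ⟨τ * g, ?_⟩
      have h4 : τ * (σ * σ) * τ⁻¹ = σ := by
        calc τ * (σ * σ) * τ⁻¹ = (τ * σ) * σ * τ⁻¹ := by simp only [mul_assoc]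
          _ = (σ * σ * τ) * σ * τ⁻¹ := by rw [hτσ]
          _ = σ * σ * (τ * σ) * τ⁻¹ := by simp only [mul_assoc]
          _ = σ ^ 3 * σ := by rw [hτσ]; simp only [pow_succ, pow_zero, one_mul, mul_assoc, mul_inv_cancel, mul_one]
          _ = σ := by rw [hσ3, one_mul]
      calc τ * g * x * (τ * g)⁻¹ = τ * (g * x * g⁻¹) * τ⁻¹ := by group
        _ = τ * (σ * σ) * τ⁻¹ := by rw [← hn', pow_two]
        _ = σ := h4
  obtain ⟨g, hg⟩ := key x hx
  obtain ⟨h, hh⟩ := key y hy
  refine ⟨h⁻¹ * g, ?_⟩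
  calc h⁻¹ * g * x * (h⁻¹ * g)⁻¹ = h⁻¹ * (g * x * g⁻¹) * h := by group
    _ = h⁻¹ * (h * y * h⁻¹) * h := by rw [hg, hh]
    _ = y := by group

theorem three_dvd_card (F : Type*) [Field F] [Finite F] : 3 ∣ Nat.card (ProjectiveSpecialLinearGroup (Fin 3) F) := by
  let s : SpecialLinearGroup (Fin 3) F := ⟨!![0, 0, 1; 1, 0, 0; 0, 1, 0], by simp [Matrix.det_fin_three]⟩
  have hs3 : s ^ 3 = 1 := by
    apply Subtype.ext
    rw [pow_succ, pow_two, Matrix.SpecialLinearGroup.coe_mul, Matrix.SpecialLinearGroup.coe_mul]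
    ext i j
    fin_cases i <;> fin_cases j <;> simp [s, Matrix.mul_apply, Fin.sum_univ_three]
  let σ : ProjectiveSpecialLinearGroup (Fin 3) F := QuotientGroup.mk s
  have hσ3 : σ ^ 3 = 1 := by
    show (QuotientGroup.mk s : ProjectiveSpecialLinearGroup (Fin 3) F) ^ 3 = 1
    rw [← QuotientGroup.mk_pow, hs3, QuotientGroup.mk_one]
  have hσ1 : σ ≠ 1 := by
    intro h
    have h1 := (QuotientGroup.eq_one_iff s).1 h
    rw [Matrix.SpecialLinearGroup.mem_center_iff] at h1
    obtain ⟨r, -, hr⟩ := h1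
    have e1 := congrFun (congrFun hr 0) 2
    simp [s] at e1
  have hσo : orderOf σ = 3 := orderOf_eq_prime hσ3 hσ1
  have h := orderOf_dvd_natCard σ
  rw [hσo] at h
  exact h

end Cfsg.Agent.H574.PslThreeFour
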