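import Mathlib
import Cfsg.Agent.H574.CNAlmost
import Cfsg.Agent.H574.CNMod
import Cfsg.Agent.OddCyclic.T1Socle
import Cfsg.Agent.S3050
import Cfsg.Agent.S0336
import Cfsg.Agent.H572.SzFree

/-!
# Non-solvable CN-groups: S4351
-/

set_option autoImplicit false

namespace Cfsg.Agent.H574.CNMain

open Subgroup Cfsg CNRad

universe u

theorem main {G : Type u} [Group G] [Finite G] (hG : ¬ Group.IsSolvable G)
    (hCN : IsCNGroup G) :
    (IsSimpleGroup G ∧ ¬ IsMulCommutative G) ∨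
    (∃ (N : Subgroup G), N.Normal ∧ N.index = 2 ∧ ∃ (F : Type) (_ : Field F) (_ : Fintype F), Fintype.card F = 9 ∧
        Nonempty (N ≃* Matrix.ProjectiveSpecialLinearGroup (Fin 2) F)) ∨
    (∃ (N : Subgroup G) (_ : N.Normal), N ≠ ⊥ ∧ IsPGroup 2 N ∧ IsMulCommutative N ∧ (∀ x ∈ N, x * x = 1) ∧
        ((∃ (F : Type) (_ : Field F) (_ : Fintype F), CharP F 2 ∧ 4 ≤ Fintype.card F ∧
            Nonempty (G ⧸ N ≃* Matrix.ProjectiveSpecialLinearGroup (Fin 2) F)) ∨ Cfsg.IsSuzuki (G ⧸ N))) := by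
  have : Fact (Nat.Prime 2) := ⟨Nat.prime_two⟩
  by_cases hQ : pCore 2 G = ⊥
  · -- trivial radical
    rcases almost hCN hG (fun p hp => by
      by_cases h2 : p = 2
      · rw [h2]; exact hQ
      · exact pCore_odd hCN hG hp h2) with ⟨hs, -⟩ | h
    · left
      refine ⟨hs, fun hc => hG ?_⟩
      exact IsSimpleGroup.comm_iff_isSolvable.1 hc.is_comm.comm
    · exact Or.inr (Or.inl h)
  · right; right
    obtain ⟨h1, h2, h3⟩ := quotient hCN hG
    have hQp : IsPGroup 2 (pCore 2 G) := Lib.Cores.pCore_isPGroup 2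
    -- the exclusions
    have no33 : ∀ {K : Type u} [Group K] (f : K →* G ⧸ pCore 2 G), Function.Injective f →
        ∀ x y : K, ¬ CNMod.ThreeThree x y := by
      intro K _ f hf x y ⟨hxy, hx, hy, hxy3, hxyy⟩
      refine CNMod.false_of_module hCN hG hQ f hf ?_
      intro V _ _ _ hV ρ hfpf
      exact CNMod.false_of_33 hV ρ hfpf hxy hx hy hxy3 hxyy
    have no33' : ∀ {K : Type u} [Group K] (f : K →* G ⧸ pCore 2 G), Function.Injective f →
        ∀ {L : Type} [Group L] (e : K ≃* L) (x y : L), ¬ CNMod.ThreeThree x y := by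
      intro K _ f hf L _ e x y ⟨hxy, hx, hy, hxy3, hxyy⟩
      have ho : ∀ z : L, orderOf (e.symm z) = orderOf z := fun z => MulEquiv.orderOf_eq e.symm z
      refine no33 f hf (e.symm x) (e.symm y) ⟨?_, ?_, ?_, ?_, ?_⟩
      · rw [← map_mul, hxy, map_mul]
      · rw [ho, hx]
      · rw [ho, hy]
      · rw [← map_mul, ho, hxy3]
      · rw [← map_mul, ← map_mul, ho, hxyy]
    have hfpf : ∀ x : G, (orderOf x).Coprime 2 → x ≠ 1 → ∀ q ∈ pCore 2 G, x * q = q * x → q = 1 :=
      fun x hx hx1 q hq hxq => fpf hCN hG hx hx1 hq hxq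
    -- `SL₂(2ⁿ)`
    have sl2 : ∀ (K : Type) [Field K] [Fintype K] (n : ℕ), 2 ≤ n → Fintype.card K = 2 ^ n →
        (G ⧸ pCore 2 G ≃* Matrix.SpecialLinearGroup (Fin 2) K) →
        IsMulCommutative (pCore 2 G) ∧ ∀ x ∈ pCore 2 G, x * x = 1 := by
      intro K _ _ n hn hK e
      have hch : CharP K 2 := charP_two_of hK
      obtain ⟨e'⟩ := Cfsg.Agent.WeakTI.PslTwo.nonempty_equiv (F := K)
      have h3dvd : 3 ∣ Nat.card G := by
        have h4 : 3 ∣ Nat.card (G ⧸ pCore 2 G) := by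
          rw [Nat.card_congr (e.trans e').toEquiv]
          exact Cfsg.Agent.ThreePrime.OrderThree.three_dvd_card_psl K
        exact h4.trans (Subgroup.card_quotient_dvd_card _)
      have : Fact (Nat.Prime 3) := ⟨Nat.prime_three⟩
      obtain ⟨x, hx⟩ := exists_prime_orderOf_dvd_card' 3 h3dvd
      have hx1 : x ≠ 1 := by
        rintro rfl
        rw [orderOf_one] at hx
        omega
      have h5 := (Cfsg.Agent.S3050.result (pCore 2 G) hQp n hn K hK e x hx (by
        intro q hq hxq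
        exact hfpf x (by rw [hx]; norm_num) hx1 q hq (mul_inv_eq_iff_eq_mul.1 hxq))).1
      exact ⟨h5.1, fun x hx => by rw [← pow_two]; exact h5.2 x hx⟩
    rcases almost h1 h2 h3 with ⟨hs, hL⟩ | ⟨N, hN, hidx, F, i1, i2, hF, ⟨e⟩⟩
    · rcases hL with ⟨F, i1, i2, n, hn, hF, ⟨e⟩⟩ | ⟨F, i1, i2, hF, ⟨e⟩⟩ | ⟨F, i1, i2, hp, h5, ⟨e⟩⟩ |
        ⟨F, i1, i2, hF, ⟨e⟩⟩ | h
      · have hch : CharP F 2 := charP_two_of hF
        obtain ⟨e'⟩ := Cfsg.Agent.WeakTI.PslTwo.nonempty_equiv (F := F)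
        obtain ⟨h6, h7⟩ := sl2 F n hn hF (e.trans e'.symm)
        refine ⟨pCore 2 G, inferInstance, hQ, hQp, h6, h7, Or.inl ⟨F, i1, i2, hch, ?_, ⟨e⟩⟩⟩
        rw [hF]
        calc 4 = 2 ^ 2 := by norm_num
          _ ≤ 2 ^ n := Nat.pow_le_pow_right (by norm_num) hn
      · exfalso
        obtain ⟨x, y, hxy⟩ := CNMod.threeThree_nine hF
        exact no33' (MonoidHom.id _) Function.injective_id e x y hxy
      · by_cases h7 : 7 ≤ Fintype.card F
        · exfalso
          refine CNMod.false_of_module hCN hG hQ (K := Matrix.ProjectiveSpecialLinearGroup (Fin 2) F)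
            e.symm.toMonoidHom e.symm.injective ?_
          intro V _ _ _ hV ρ hfpf
          exact CNMod.not_psl_prime hp h7 hV ρ hfpf
        · have hF5 : Fintype.card F = 5 := by
            push Not at h7
            interval_cases h : Fintype.card F
            · rfl
            · norm_num at hp
          obtain ⟨K, i3, i4, hch, hK, ⟨e'⟩⟩ := Cfsg.Agent.OddCyclic.T1Socle.exists_four hF5
          obtain ⟨e''⟩ := Cfsg.Agent.WeakTI.PslTwo.nonempty_equiv (F := K)
          obtain ⟨h6, h7⟩ := sl2 K 2 le_rfl (by rw [hK]; norm_num) (e.trans e')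
          exact ⟨pCore 2 G, inferInstance, hQ, hQp, h6, h7, Or.inl ⟨K, i3, i4, hch, by omega,
            ⟨(e.trans e').trans e''⟩⟩⟩
      · exfalso
        obtain ⟨x, y, hxy⟩ := CNMod.threeThree_four hF
        exact no33' (MonoidHom.id _) Function.injective_id e x y hxy
      · obtain ⟨h7, h6⟩ := Cfsg.Agent.H572.SzFree.martineau_odd (pCore 2 G) hQp h (by
          intro x hx hx1 q hq hxq
          exact hfpf x (Nat.coprime_two_right.2 hx) hx1 q hq hxq)
        have h7 : IsMulCommutative (pCore 2 G) :=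
          ⟨⟨fun a b => Subtype.ext (h7 a a.2 b b.2)⟩⟩
        exact ⟨pCore 2 G, inferInstance, hQ, hQp, h7, h6, Or.inr (by
          have := hs
          exact Cfsg.Agent.S0336.isSuzuki_of_isoSuzuki h)⟩
    · exfalso
      obtain ⟨x, y, hxy⟩ := CNMod.threeThree_nine hF
      exact no33' N.subtype N.subtype_injective e x y hxy

end Cfsg.Agent.H574.CNMain
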