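import Mathlib
import Cfsg.Prelude.Def_LieExceptional
import Cfsg.Prelude.Def_Solvable
import Cfsg.Agent.Lib.Cores
import Cfsg.Agent.Lib.SolvableNormalP
import Cfsg.Agent.OddOrderLocal.CNBasic
import Cfsg.Agent.S1473
import Cfsg.Agent.S0183

/-!
# Non-solvable CN-groups: the radical

`G` a finite non-solvable CN-group: `O_r(G) = 1` for odd `r`; if `Q = O₂(G) ≠ 1` then the non-identity elements of odd
order of `G` act without fixed points on `Q`; `G/Q` has trivial solvable radical and contains a normal simple subgroup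
with trivial centraliser.
-/

set_option autoImplicit false

namespace Cfsg.Agent.H574.CNRad

open Subgroup Cfsg

variable {G : Type*} [Group G] [Finite G]

omit [Finite G] in
theorem nil_of_le {A B : Subgroup G} (h : A ≤ B) (hB : Group.IsNilpotent B) : Group.IsNilpotent A :=
  Group.nilpotent_of_mulEquiv (Subgroup.subgroupOfEquivOfLe h)

/-- elements of coprime orders of a centraliser commute -/
theorem comm_of (hCN : IsCNGroup G) {v a b : G} (hv : v ≠ 1) (ha : a * v = v * a) (hb : b * v = v * b)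
    (hab : (orderOf a).Coprime (orderOf b)) : a * b = b * a :=
  Cfsg.Agent.OddOrderLocal.CNBasic.commute_of_mem_of_coprime (hCN v hv)
    (mem_centralizer_singleton_iff.2 ha) (mem_centralizer_singleton_iff.2 hb) hab

omit [Finite G] in
/-- the order of an element of a `p`-subgroup is a power of `p` -/
theorem orderOf_eq_of_mem {p : ℕ} {P : Subgroup G} (hP : IsPGroup p P) {x : G} (hx : x ∈ P) :
    ∃ k, x ^ p ^ k = 1 := by
  obtain ⟨k, hk⟩ := hP ⟨x, hx⟩
  exact ⟨k, congrArg Subtype.val hk⟩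

omit [Finite G] in
theorem coprime_of_pow {p : ℕ} {x b : G} {k : ℕ} (hx : x ^ p ^ k = 1) (hb : (orderOf b).Coprime p) :
    (orderOf x).Coprime (orderOf b) :=
  (Nat.Coprime.pow_right k hb).symm.coprime_dvd_left (orderOf_dvd_of_pow_eq_one hx)

omit [Finite G] in
theorem coprime_of_pow_pow {p r : ℕ} (hpr : p.Coprime r) {x y : G} {k l : ℕ} (hx : x ^ p ^ k = 1)
    (hy : y ^ r ^ l = 1) : (orderOf x).Coprime (orderOf y) :=
  ((Nat.Coprime.pow k l hpr).coprime_dvd_left (orderOf_dvd_of_pow_eq_one hx)).coprime_dvd_right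
    (orderOf_dvd_of_pow_eq_one hy)

/-- a non-trivial normal `p`-subgroup contains a non-trivial normal subgroup centralised by it -/
theorem exists_center {p : ℕ} [Fact p.Prime] {Q : Subgroup G} (hQn : Q.Normal) (hQ : IsPGroup p Q) (hQ1 : Q ≠ ⊥) :
    ∃ V : Subgroup G, V.Normal ∧ V ≤ Q ∧ (∃ v ∈ V, v ≠ 1) ∧ ∀ v ∈ V, ∀ u ∈ Q, u * v = v * u := by
  have : Nontrivial Q := (Subgroup.nontrivial_iff_ne_bot Q).2 hQ1
  have hnt : Nontrivial (center Q) := hQ.center_nontrivial
  obtain ⟨w, hw⟩ := exists_ne (1 : center Q)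
  refine ⟨(center Q).map Q.subtype, inferInstance, map_subtype_le _, ⟨((w : Q) : G), ⟨w, w.2, rfl⟩, ?_⟩, ?_⟩
  · intro h
    exact hw (Subtype.ext (Subtype.ext h))
  · rintro _ ⟨v, hv, rfl⟩ u hu
    exact congrArg Subtype.val (mem_center_iff.1 hv ⟨u, hu⟩)

/-- a normal nilpotent subgroup of order divisible by `r` gives `O_r(G) ≠ 1` -/
theorem pCore_ne_bot {D : Subgroup G} (hDn : D.Normal) (hD : Group.IsNilpotent D) {r : ℕ} (hr : r.Prime)
    (hrD : r ∣ Nat.card D) : pCore r G ≠ ⊥ := by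
  have : Fact r.Prime := ⟨hr⟩
  have h3 : Group.IsNilpotent D ↔ ∀ (p : ℕ) (_ : Fact p.Prime) (P : Sylow p D), (P : Subgroup D).Normal :=
    (Group.isNilpotent_of_finite_tfae (G := D)).out 0 3
  obtain ⟨P⟩ : Nonempty (Sylow r D) := inferInstance
  have hPn := h3.mp hD r inferInstance P
  have hP1 : (P : Subgroup D) ≠ ⊥ := P.ne_bot_of_dvd_card hrD
  have h1 : (P : Subgroup D) ≤ pCore r D := Lib.Cores.le_pCore hPn P.isPGroup'
  intro h
  have h2 := Lib.Cores.map_subtype_pCore r hDn
  rw [h, inf_bot_eq, Subgroup.map_eq_bot_iff_of_injective _ D.subtype_injective] at h2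
  rw [h2, le_bot_iff] at h1
  exact hP1 h1

omit [Finite G] in
theorem isSolvable_of_quotient (N : Subgroup G) [N.Normal] (hN : Group.IsSolvable N)
    (hQ : Group.IsSolvable (G ⧸ N)) : Group.IsSolvable G :=
  (Group.isSolvable_iff_subgroup_quotient N).2 ⟨hN, hQ⟩

/-- every element has a power which is a 2-element with the same image, if its image has order two -/
theorem exists_two_lift (C : Subgroup G) [C.Normal] (s : G ⧸ C) (hs : orderOf s = 2) :
    ∃ t : G, (QuotientGroup.mk t : G ⧸ C) = s ∧ ∃ k : ℕ, t ^ 2 ^ k = 1 := by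
  obtain ⟨g, rfl⟩ := QuotientGroup.mk_surjective s
  obtain ⟨a, b, -, hb, hab, ⟨k, hk⟩, hb2⟩ := Cfsg.Agent.OddOrderLocal.CNBasic.exists_mul_parts Nat.prime_two g
  refine ⟨a, ?_, k, hk⟩
  have hb1 : (QuotientGroup.mk b : G ⧸ C) = 1 := by
    rw [← orderOf_eq_one_iff]
    have h1 : orderOf (QuotientGroup.mk b : G ⧸ C) ∣ orderOf b := orderOf_map_dvd (QuotientGroup.mk' C) b
    have h2 : orderOf (QuotientGroup.mk b : G ⧸ C) ∣ 2 := by
      obtain ⟨n, rfl⟩ := mem_zpowers_iff.1 hb
      rw [← hs]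
      have h3 : (QuotientGroup.mk (g ^ n) : G ⧸ C) ∈ zpowers (QuotientGroup.mk g : G ⧸ C) :=
        mem_zpowers_iff.2 ⟨n, (QuotientGroup.mk_zpow C g n).symm⟩
      exact orderOf_dvd_of_mem_zpowers h3
    have h3 : orderOf (QuotientGroup.mk b : G ⧸ C) ∣ Nat.gcd (orderOf b) 2 := Nat.dvd_gcd h1 h2
    rw [hb2] at h3
    exact Nat.dvd_one.1 h3
  have h4 : (QuotientGroup.mk g : G ⧸ C) = QuotientGroup.mk a * QuotientGroup.mk b := by
    rw [← QuotientGroup.mk_mul, hab]
  rw [h4, hb1, mul_one]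

/-- **Step 1.** `O_r(G) = 1` for odd primes `r` -/
theorem pCore_odd (hCN : IsCNGroup G) (hG : ¬ Group.IsSolvable G) {r : ℕ} (hr : r.Prime) (hr2 : r ≠ 2) :
    pCore r G = ⊥ := by
  by_contra hne
  have : Fact r.Prime := ⟨hr⟩
  have hP : IsPGroup r (pCore r G) := Lib.Cores.pCore_isPGroup r
  obtain ⟨V, hVn, hVP, ⟨v₀, hv₀, hv₁⟩, hVc⟩ := exists_center (Lib.Cores.pCore_normal r) hP hne
  have hVV : ∀ v ∈ V, ∀ u ∈ V, u * v = v * u := fun v hv u hu => hVc v hv u (hVP hu)
  set C := centralizer (V : Set G) with hC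
  have hCv : C ≤ centralizer ({v₀} : Set G) := centralizer_le (by simpa using hv₀)
  have hCnil : Group.IsNilpotent C := by
    have h1 := hCN v₀ hv₁
    exact nil_of_le hCv (by assumption)
  have hCsol : Group.IsSolvable C := inferInstance
  have hCN' : IsCNGroup (G ⧸ C) := Cfsg.Agent.S1473.result hCN C hCsol
  have hns : ¬ Group.IsSolvable (G ⧸ C) := fun h => hG (isSolvable_of_quotient C hCsol h)
  have heven : 2 ∣ Nat.card (G ⧸ C) := by
    by_contra h
    apply hns
    apply Cfsg.Agent.S0183.result _ hCN'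
    rw [← Nat.not_even_iff_odd, even_iff_two_dvd]
    exact h
  obtain ⟨s, hs⟩ := exists_prime_orderOf_dvd_card' 2 heven
  obtain ⟨t, hts, k, hk⟩ := exists_two_lift C s hs
  have htC : t ∉ C := by
    intro h
    have : s = 1 := by rw [← hts]; exact (QuotientGroup.eq_one_iff t).2 h
    rw [this, orderOf_one] at hs
    omega
  have ht2 : t * t ∈ C := by
    rw [← QuotientGroup.eq_one_iff (N := C), QuotientGroup.mk_mul, hts, ← pow_two, ← hs, pow_orderOf_eq_one]
  have hfix : ∀ v ∈ V, t * v = v * t → v = 1 := by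
    intro v hv htv
    by_contra hv1
    apply htC
    rw [hC, mem_centralizer_iff]
    intro w hw
    obtain ⟨l, hl⟩ := orderOf_eq_of_mem hP (hVP hw)
    refine (comm_of hCN hv1 htv (hVV v hv w hw) ?_).symm
    exact coprime_of_pow_pow ((Nat.coprime_primes Nat.prime_two hr).2 hr2.symm) hk hl
  have hconj : ∀ g : G, ∀ v ∈ V, g * v * g⁻¹ ∈ V := fun g v hv => hVn.conj_mem v hv g
  have hinv : ∀ v ∈ V, t * v * t⁻¹ = v⁻¹ := by
    intro v hv
    have h1 := hconj t v hv
    have h2 : t * t * v = v * (t * t) := ((mem_centralizer_iff.1 ht2) v hv).symm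
    have h3 : v * (t * v * t⁻¹) = 1 := by
      apply hfix _ (V.mul_mem hv h1)
      have h4 : t * (t * v * t⁻¹) * t⁻¹ = v := by
        calc t * (t * v * t⁻¹) * t⁻¹ = (t * t * v) * (t * t)⁻¹ := by group
          _ = v := by rw [h2]; group
      calc t * (v * (t * v * t⁻¹)) = (t * v * t⁻¹) * (t * (t * v * t⁻¹) * t⁻¹) * t := by group
        _ = (t * v * t⁻¹) * v * t := by rw [h4]
        _ = v * (t * v * t⁻¹) * t := by rw [hVV v hv _ h1]
    exact (inv_eq_of_mul_eq_one_right h3).symm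
  have hcen : ∀ x : G ⧸ C, x * s = s * x := by
    intro x
    obtain ⟨g, rfl⟩ := QuotientGroup.mk_surjective x
    rw [← hts, ← QuotientGroup.mk_mul, ← QuotientGroup.mk_mul, QuotientGroup.eq, hC, mem_centralizer_iff]
    intro v hv
    have h1 : (g * t) * v * (g * t)⁻¹ = (t * g) * v * (t * g)⁻¹ := by
      calc (g * t) * v * (g * t)⁻¹ = g * (t * v * t⁻¹) * g⁻¹ := by group
        _ = (g * v * g⁻¹)⁻¹ := by rw [hinv v hv]; group
        _ = t * (g * v * g⁻¹) * t⁻¹ := (hinv _ (hconj g v hv)).symm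
        _ = (t * g) * v * (t * g)⁻¹ := by group
    calc v * ((g * t)⁻¹ * (t * g)) = (g * t)⁻¹ * ((g * t) * v * (g * t)⁻¹) * (t * g) := by group
      _ = (g * t)⁻¹ * ((t * g) * v * (t * g)⁻¹) * (t * g) := by rw [h1]
      _ = (g * t)⁻¹ * (t * g) * v := by group
  have hs1 : s ≠ 1 := by rintro rfl; rw [orderOf_one] at hs; omega
  have htop : centralizer ({s} : Set (G ⧸ C)) = ⊤ := by
    rw [eq_top_iff]
    intro x _
    exact mem_centralizer_singleton_iff.2 (hcen x)
  have hnil := hCN' s hs1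
  rw [htop] at hnil
  apply hns
  exact Group.isSolvable_of_surjective (f := (topEquiv (G := G ⧸ C)).toMonoidHom) (topEquiv (G := G ⧸ C)).surjective

/-- **Step 1b.** non-identity elements of odd order act without fixed points on `O₂(G)` -/
theorem fpf (hCN : IsCNGroup G) (hG : ¬ Group.IsSolvable G) {x q : G} (hx : (orderOf x).Coprime 2)
    (hx1 : x ≠ 1) (hq : q ∈ pCore 2 G) (hxq : x * q = q * x) : q = 1 := by
  by_contra hq1
  have : Fact (Nat.Prime 2) := ⟨Nat.prime_two⟩
  have hQ : IsPGroup 2 (pCore 2 G) := Lib.Cores.pCore_isPGroup 2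
  have hQ1 : pCore 2 G ≠ ⊥ := by
    intro h
    rw [h, mem_bot] at hq
    exact hq1 hq
  obtain ⟨V, hVn, hVQ, ⟨z, hz, hz1⟩, hVc⟩ := exists_center (Lib.Cores.pCore_normal 2) hQ hQ1
  have hzx : z * x = x * z := by
    obtain ⟨k, hk⟩ := orderOf_eq_of_mem hQ (hVQ hz)
    exact comm_of hCN hq1 (hVc z hz q hq).symm hxq (coprime_of_pow hk hx)
  set D := centralizer (pCore 2 G : Set G) with hD
  have hDn : D.Normal := by
    have := Lib.Cores.pCore_normal (G := G) 2
    infer_instance
  have hxD : x ∈ D := by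
    rw [hD, mem_centralizer_iff]
    intro u hu
    obtain ⟨k, hk⟩ := orderOf_eq_of_mem hQ hu
    exact comm_of hCN hz1 (hVc z hz u hu) hzx.symm (coprime_of_pow hk hx)
  have hDz : D ≤ centralizer ({z} : Set G) := centralizer_le (by simpa using hVQ hz)
  have hDnil : Group.IsNilpotent D := by
    have h1 := hCN z hz1
    exact nil_of_le hDz (by assumption)
  have hxo : orderOf x ≠ 1 := fun h => hx1 (orderOf_eq_one_iff.1 h)
  obtain ⟨r, hr, hrx⟩ := Nat.exists_prime_and_dvd hxo
  have hr2 : r ≠ 2 := by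
    rintro rfl
    have := Nat.dvd_gcd hrx (dvd_refl 2)
    rw [hx] at this
    omega
  have hrD : r ∣ Nat.card D := by
    refine hrx.trans ?_
    have := orderOf_dvd_natCard (⟨x, hxD⟩ : D)
    rwa [Subgroup.orderOf_mk] at this
  exact pCore_ne_bot hDn hDnil hr hrD (pCore_odd hCN hG hr hr2)

/-- **Step 2.** `G/O₂(G)` -/
theorem quotient (hCN : IsCNGroup G) (hG : ¬ Group.IsSolvable G) :
    IsCNGroup (G ⧸ pCore 2 G) ∧ ¬ Group.IsSolvable (G ⧸ pCore 2 G) ∧ ∀ p : ℕ, p.Prime → pCore p (G ⧸ pCore 2 G) = ⊥ := by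
  have : Fact (Nat.Prime 2) := ⟨Nat.prime_two⟩
  have hQ : IsPGroup 2 (pCore 2 G) := Lib.Cores.pCore_isPGroup 2
  have hQs : Group.IsSolvable (pCore 2 G) := by
    have := hQ.isNilpotent
    infer_instance
  have h1 : IsCNGroup (G ⧸ pCore 2 G) := Cfsg.Agent.S1473.result hCN _ hQs
  have h2 : ¬ Group.IsSolvable (G ⧸ pCore 2 G) := fun h => hG (isSolvable_of_quotient _ hQs h)
  refine ⟨h1, h2, fun p hp => ?_⟩
  by_cases hp2 : p = 2
  · subst hp2
    exact Lib.Cores.pCore_quotient_pCore 2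
  · exact pCore_odd h1 h2 hp hp2

/-- no nontrivial solvable normal subgroup -/
theorem eq_bot_of_solvable (hO : ∀ p : ℕ, p.Prime → pCore p G = ⊥) {M : Subgroup G} (hM : M.Normal)
    (hMs : Group.IsSolvable M) : M = ⊥ := by
  by_contra hne
  have hnt : Nontrivial M := (Subgroup.nontrivial_iff_ne_bot M).2 hne
  obtain ⟨p, N, hp, hN, hNp, -, hN1⟩ := Lib.SolvableNormalP.exists_normal_pSubgroup M
  have h1 : N ≤ pCore p M := Lib.Cores.le_pCore hN hNp
  have h2 := Lib.Cores.map_subtype_pCore p hM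
  rw [hO p hp, inf_bot_eq, Subgroup.map_eq_bot_iff_of_injective _ M.subtype_injective] at h2
  rw [h2, le_bot_iff] at h1
  exact hN1 h1

/-- **Step 3.** a CN-group with trivial solvable radical has a simple normal subgroup with trivial centraliser -/
theorem exists_simple_normal (hCN : IsCNGroup G) (hnt : Nontrivial G) (hO : ∀ p : ℕ, p.Prime → pCore p G = ⊥) :
    ∃ K : Subgroup G, K.Normal ∧ IsSimpleGroup K ∧ ¬ Group.IsSolvable K ∧
      Subgroup.centralizer (K : Set G) = ⊥ := by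
  obtain ⟨N, hN⟩ := (Set.toFinite {N : Subgroup G | N.Normal ∧ N ≠ ⊥}).exists_minimal
    ⟨⊤, inferInstance, top_ne_bot⟩
  obtain ⟨⟨hNn, hN1⟩, hNmin⟩ := hN
  have hNmin' : ∀ M : Subgroup G, M.Normal → M ≠ ⊥ → M ≤ N → M = N := fun M hM hM1 hMN =>
    le_antisymm hMN (hNmin ⟨hM, hM1⟩ hMN)
  have hNO : ∀ p : ℕ, p.Prime → pCore p N = ⊥ := by
    intro p hp
    have h2 := Lib.Cores.map_subtype_pCore p hNn
    rwa [hO p hp, inf_bot_eq, Subgroup.map_eq_bot_iff_of_injective _ N.subtype_injective] at h2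
  have hNCN : IsCNGroup N := Cfsg.Agent.OddOrderLocal.CNBasic.isCNGroup_subgroup hCN N
  have hNnt : Nontrivial N := (Subgroup.nontrivial_iff_ne_bot N).2 hN1
  obtain ⟨L, hLm⟩ := (Set.toFinite {L : Subgroup N | L.Normal ∧ L ≠ ⊥}).exists_minimal
    ⟨⊤, inferInstance, top_ne_bot⟩
  obtain ⟨⟨hLn, hL1⟩, hLmin⟩ := hLm
  have hLmin' : ∀ M : Subgroup N, M.Normal → M ≠ ⊥ → M ≤ L → M = L := fun M hM hM1 hMN =>
    le_antisymm hMN (hLmin ⟨hM, hM1⟩ hMN)
  have hLns : ¬ Group.IsSolvable L := fun hs => hL1 (eq_bot_of_solvable hNO hLn hs)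
  have hconj : ∀ g : G, L.map (MulAut.conjNormal g : MulAut N).toMonoidHom = L := by
    intro g
    by_contra hne
    set L' := L.map (MulAut.conjNormal g : MulAut N).toMonoidHom with hL'
    have hL'n : L'.Normal := hLn.map _ (MulAut.conjNormal g : MulAut N).surjective
    have hcard : Nat.card L' = Nat.card L :=
      Subgroup.card_map_of_injective (MulAut.conjNormal g : MulAut N).injective
    have hinf : L ⊓ L' = ⊥ := by
      by_contra h
      have h1 := hLmin' (L ⊓ L') inferInstance h inf_le_left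
      have h2 : L ≤ L' := by rw [← h1]; exact inf_le_right
      exact hne (Subgroup.eq_of_le_of_card_ge h2 hcard.le).symm
    obtain ⟨t, ht1'⟩ : ∃ t : L, t ≠ 1 := Subgroup.ne_bot_iff_exists_ne_one.1 hL1
    have ht1 : (t : N) ≠ 1 := fun h => ht1' (Subtype.ext h)
    have hle : L' ≤ Subgroup.centralizer ({(t : N)} : Set N) := by
      intro x hx
      rw [Subgroup.mem_centralizer_singleton_iff]
      have h1 : (t : N) * x * (t : N)⁻¹ * x⁻¹ ∈ L ⊓ L' := by
        constructor
        · have : (t : N) * (x * (t : N)⁻¹ * x⁻¹) ∈ L :=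
            L.mul_mem t.2 (hLn.conj_mem _ (L.inv_mem t.2) x)
          simpa [mul_assoc] using this
        · exact L'.mul_mem (hL'n.conj_mem x hx t) (L'.inv_mem hx)
      rw [hinf, Subgroup.mem_bot] at h1
      have h2 : (t : N) * x = x * t := by
        calc (t : N) * x = ((t : N) * x * (t : N)⁻¹ * x⁻¹) * (x * t) := by group
          _ = x * t := by rw [h1, one_mul]
      exact h2.symm
    have hnil := hNCN t ht1
    have hL'nil : Group.IsNilpotent L' :=
      nil_of_le hle (by assumption)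
    apply hLns
    have h5 : Group.IsSolvable L' := inferInstance
    exact Group.isSolvable_of_isSolvable_injective
      (f := (MulAut.conjNormal g : MulAut N).toMonoidHom.subgroupMap L)
      (by
        intro x y hxy
        exact Subtype.ext ((MulAut.conjNormal g : MulAut N).injective (congrArg Subtype.val hxy)))
  have hLtop : L = ⊤ := by
    have hn : (L.map N.subtype).Normal := by
      constructor
      rintro _ ⟨x, hx, rfl⟩ g
      have h1 : (MulAut.conjNormal g : MulAut N) x ∈ L := by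
        rw [← hconj g]
        exact ⟨x, hx, rfl⟩
      exact ⟨_, h1, rfl⟩
    have h1 : (L.map N.subtype) ≠ ⊥ := by
      rwa [Ne, Subgroup.map_eq_bot_iff_of_injective _ N.subtype_injective]
    have h2 := hNmin' _ hn h1 (Subgroup.map_subtype_le _)
    rw [eq_top_iff]
    intro x _
    have : (x : G) ∈ L.map N.subtype := by rw [h2]; exact x.2
    obtain ⟨y, hy, hyx⟩ := this
    have : y = x := Subtype.ext hyx
    exact this ▸ hy
  have hsimple : IsSimpleGroup N := by
    constructor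
    intro H hH
    by_cases h : H = ⊥
    · exact Or.inl h
    · right
      rw [hLmin' H hH h (by rw [hLtop]; exact le_top), hLtop]
  have hNns : ¬ Group.IsSolvable N := fun h => hN1 (eq_bot_of_solvable hO hNn h)
  refine ⟨N, hNn, hsimple, hNns, ?_⟩
  by_contra hc
  obtain ⟨c, hc1⟩ := Subgroup.ne_bot_iff_exists_ne_one.1 hc
  have hle : N ≤ centralizer ({(c : G)} : Set G) := by
    intro x hx
    rw [mem_centralizer_singleton_iff]
    exact (mem_centralizer_iff.1 c.2) x hx
  have hnil := hCN c (fun h => hc1 (Subtype.ext h))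
  have h6 : Group.IsNilpotent N :=
    nil_of_le hle (by assumption)
  exact hNns inferInstance

end Cfsg.Agent.H574.CNRad
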