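import Cfsg.Agent.H574.ExcE8FiveA
import Cfsg.Agent.H795.NotAbRows

/-!
# `PairN t 5 E₈(q)`, `q² ≡ -1 (mod 5)` (helper574, S4350)

`θ` is the element `u5` of the Weyl group, `θ² = -1`.
* `card_TG` : `n ^ 4` divides the order of the torus, `n ∣ q² + 1`;
* `eq_one_seven` : elements of order seven commuting with `θ`;
* `pairN_E8_five`.
-/

set_option autoImplicit false
set_option linter.unusedSectionVars false

namespace Cfsg.Agent.H574.ExcE8Five

open CoxeterSystem Cfsg Cfsg.Lie Cfsg.Lie.ChevalleyDatum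
open Cfsg.Agent.ChevalleyStructure Cfsg.Agent.ChevalleyStructure.Elts Cfsg.Agent.ChevalleyStructure.CoxeterGeom
  Cfsg.Agent.ChevalleyStructure.CoxeterGeomTypes Cfsg.Agent.ChevalleyStructure.NPerm
open Cfsg.Agent.Tits.Roots Cfsg.Agent.Tits.Core Cfsg.Agent.Nodes Cfsg.Agent.Nodes.Reps Cfsg.Agent.Nodes.BNOf
  Cfsg.Agent.Nodes.RGDChev Cfsg.Agent.Nodes.Bruhat
open Cfsg.Agent.KFacts.RgdField Cfsg.Agent.KFacts.RgdChevCoord Cfsg.Agent.BpExc.TorCent Cfsg.Agent.BpExc.TorChev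
open Cfsg.Agent.GpExc.Field Cfsg.Agent.BpExc.Tow Cfsg.Agent.BpExc.TowChev Cfsg.Agent.BpExc.Fr
  Cfsg.Agent.BpExc.LangFr Cfsg.Agent.H129.TorusChar Cfsg.Agent.H129.TorusMain Cfsg.Agent.H123.ExcZ
open Cfsg.Agent.BpExc Cfsg.Agent.H795.LangT Cfsg.Agent.H795.Core Cfsg.Agent.H795.NotAbT
  Cfsg.Agent.H795.NotAbCert Cfsg.Agent.H795.NotAbData Cfsg.Agent.BpExc.RowsUntw Cfsg.Agent.H129.WData
  Cfsg.Agent.H795.Untw
open Cfsg.Agent.H129.TorusUntw (phi isFrob_phi fr_phi phi_emb coe_phi fix_range fix_split exists_closure)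
open Cfsg.Agent.H572.ExcA Cfsg.Agent.H572.ExcB Cfsg.Agent.H572.ExcC Cfsg.Agent.H572.LatQ Cfsg.Agent.H572.LatForm
  Cfsg.Agent.H572.HallCore Cfsg.Agent.H572.HallPair Cfsg.Agent.H574.ExcE8FiveA
open Cfsg.Agent.H553.OddHall
open Subgroup

universe u v

/-! ### The lattice -/

/-- the form -/
abbrev BE : (Fin 8 → ℤ) → (Fin 8 → ℤ) → ℤ := nf (cartanOf chevE8 8) (fun _ => 1)

theorem symD : SymD (cartanOf chevE8 8) (fun _ => 1) (3 : Fin 8) ![2, 1, 1, 0, 1, 2, 3, 4] where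
  sym := by decide +kernel
  pos := fun _ => one_pos
  conn := by decide +kernel

theorem isFormE : IsForm BE := by
  have : Finite CoxeterMatrix.E₈.Group := finite_W e8T (CoxeterMatrix.E₈.toCoxeterSystem)
  exact isForm CoxeterMatrix.E₈.toCoxeterSystem e8T.isCartan symD

theorem isoE (w : CoxeterMatrix.E₈.Group) : Iso BE (ac e8T w) := iso_act _ _ symD w

theorem normE_sr (i : Fin 8) : BE (sr i) (sr i) = 2 := by
  show ∑ j, 1 * (sr i : Fin 8 → ℤ) j * pairing (cartanOf chevE8 8) j (sr i) = 2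
  rw [Finset.sum_eq_single i]
  · rw [sr_self, pairing_sr', one_mul, one_mul]
    revert i
    decide +kernel
  · intro j _ hj
    rw [sr_ne hj, mul_zero, zero_mul]
  · intro h
    exact absurd (Finset.mem_univ i) h

theorem normE_root {a : Fin 8 → ℤ} (ha : IsRoot CoxeterMatrix.E₈.toCoxeterSystem e8T.isCartan a) : BE a a = 2 := by
  obtain ⟨w, i, rfl⟩ := ha
  exact ((isoE w).iso _ _).trans (normE_sr i)

theorem fixE {w : CoxeterMatrix.E₈.Group} (h : ∀ i : Fin 8, Rad BE (ac e8T w (sr i) - sr i)) : w = 1 := by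
  have : Finite CoxeterMatrix.E₈.Group := finite_W e8T (CoxeterMatrix.E₈.toCoxeterSystem)
  have h1 : ∀ i : Fin 8, ac e8T w (sr i) = sr i := fun i =>
    sub_eq_zero.1 (eq_zero_of_rad CoxeterMatrix.E₈.toCoxeterSystem e8T.isCartan symD (h i))
  apply ac_ext (hp := e8T)
  intro x
  rw [ac_one]
  exact addHom_ext (f := ac e8T w) (f' := AddMonoidHom.id _) h1 x

theorem fdata (V : Subgroup CoxeterMatrix.E₈.Group) : FData e8T BE V (fun i : Fin 8 => (sr i : Fin 8 → ℤ)) where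
  form := isFormE
  iso := fun w _ => isoE w
  norm := normE_sr
  fix := fun _ _ h => fixE h

/-! ### `θ` -/

/-- `θ` -/
noncomputable def th : (Fin 8 → ℤ) →+ (Fin 8 → ℤ) := ac e8T E8.u5

theorem th_iso : Iso BE th := isoE _

theorem th_mat (x : Fin 8 → ℤ) (m : Fin 8) : th x m = ∑ n, x n * E8.u5M n m := (E8.is_u5 e8T).apply x m

theorem th_sq (x : Fin 8 → ℤ) : th (th x) = -x := by
  refine addHom_ext (f := th.comp th) (f' := -AddMonoidHom.id _) (fun j => ?_) x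
  funext m
  show th (th (sr j)) m = -(sr j : Fin 8 → ℤ) m
  rw [th_mat]
  have h1 : th (sr j) = E8.u5M j := E8.is_u5 e8T j
  rw [h1, sr_apply']
  revert j m
  decide +kernel

/-- coordinates -/
def cidx : Fin 4 → Fin 8 := ![0, 1, 2, 4]

/-- dual vectors -/
def fv : Fin 4 → Fin 8 → ℤ :=
  ![![1, 0, 0, 1, 0, -2, 0, 0], ![0, 1, 0, -1, 0, 0, 1, 1], ![0, 0, 1, 0, 0, -1, 0, 0], ![0, 0, 0, -1, 1, 1, -1, -1]]

/-- dual vectors -/
def gv : Fin 4 → Fin 8 → ℤ :=
  ![![0, 0, 0, 0, 0, -1, 1, 2], ![0, 0, 0, -1, 0, 2, -1, 0], ![0, 0, 0, 0, 0, -1, 1, 1], ![0, 0, 0, 1, 0, -1, -1, 0]]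

theorem fv_th : ∀ i r, ∑ m, E8.u5M r m * fv i m = -gv i r := by decide +kernel

theorem gv_th : ∀ i r, ∑ m, E8.u5M r m * gv i m = fv i r := by decide +kernel

theorem fv_idx : ∀ i j, fv i (cidx j) = if i = j then 1 else 0 := by decide +kernel

theorem gv_idx : ∀ i j, gv i (cidx j) = 0 := by decide +kernel

theorem span_idx : ∀ m t, ∑ j, (fv j m * (if cidx j = t then 1 else 0) + gv j m * E8.u5M (cidx j) t) =
    if m = t then 1 else 0 := by decide +kernel

/-- the integral functional with coordinates `c` -/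
def cvec (c : Fin 4 → ℤ) (q : ℤ) (m : Fin 8) : ℤ := ∑ i, c i * (fv i m + q * gv i m)

theorem cvec_th (c : Fin 4 → ℤ) (q : ℤ) (r : Fin 8) :
    ∑ m, E8.u5M r m * cvec c q m = q * cvec c q r - (q ^ 2 + 1) * ∑ i, c i * gv i r := by
  unfold cvec
  have h1 : ∀ m, E8.u5M r m * ∑ i, c i * (fv i m + q * gv i m) =
      ∑ i, (c i * (E8.u5M r m * fv i m) + c i * q * (E8.u5M r m * gv i m)) := by
    intro m
    rw [Finset.mul_sum]
    exact Finset.sum_congr rfl fun i _ => by ring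
  rw [Finset.sum_congr rfl (fun m _ => h1 m), Finset.sum_comm]
  rw [Finset.mul_sum, Finset.mul_sum, ← Finset.sum_sub_distrib]
  refine Finset.sum_congr rfl fun i _ => ?_
  rw [Finset.sum_add_distrib, ← Finset.mul_sum, ← Finset.mul_sum, fv_th, gv_th]
  ring

/-- the functional -/
def dot (v : Fin 8 → ℤ) : (Fin 8 → ℤ) →+ ℤ where
  toFun x := ∑ m, x m * v m
  map_zero' := by simp
  map_add' x y := by
    rw [← Finset.sum_add_distrib]
    exact Finset.sum_congr rfl fun m _ => by rw [Pi.add_apply, add_mul]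

theorem dot_apply (v x : Fin 8 → ℤ) : dot v x = ∑ m, x m * v m := rfl

theorem dot_th (v x : Fin 8 → ℤ) : dot v (th x) = ∑ r, x r * ∑ m, E8.u5M r m * v m := by
  rw [dot_apply]
  simp only [th_mat, Finset.sum_mul, Finset.mul_sum]
  rw [Finset.sum_comm]
  exact Finset.sum_congr rfl fun r _ => Finset.sum_congr rfl fun m _ => by ring

theorem dot_cvec_th (c : Fin 4 → ℤ) (q : ℤ) (x : Fin 8 → ℤ) :
    dot (cvec c q) (th x) = q * dot (cvec c q) x - (q ^ 2 + 1) * ∑ r, x r * ∑ i, c i * gv i r := by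
  rw [dot_th, dot_apply, Finset.mul_sum, Finset.mul_sum, ← Finset.sum_sub_distrib]
  refine Finset.sum_congr rfl fun r _ => ?_
  rw [cvec_th]
  ring

theorem dot_sr (v : Fin 8 → ℤ) (j : Fin 8) : dot v (sr j) = v j := by
  rw [dot_apply]
  simp only [sr_apply']
  simp

theorem cvec_idx (c : Fin 4 → ℤ) (q : ℤ) (j : Fin 4) : cvec c q (cidx j) = c j := by
  unfold cvec
  simp only [fv_idx, gv_idx]
  simp

/-! ### Functionals modulo `p` -/

section functionals

variable {p : ℕ} {q0 : ℤ}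

/-- the basis of the eigenspace -/
def kap (p : ℕ) (q0 : ℤ) (i : Fin 4) : (Fin 8 → ℤ) →+ ZMod p :=
  (Int.castAddHom (ZMod p)).comp (dot (fun m => fv i m + q0 * gv i m))

theorem kap_apply (i : Fin 4) (x : Fin 8 → ℤ) : kap p q0 i x = ((dot (fun m => fv i m + q0 * gv i m) x : ℤ) : ZMod p) :=
  rfl

theorem kap_idx (i j : Fin 4) : kap p q0 i (sr (cidx j)) = if i = j then 1 else 0 := by
  rw [kap_apply, dot_sr, fv_idx, gv_idx]
  by_cases h : i = j
  · rw [if_pos h, if_pos h]; simp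
  · rw [if_neg h, if_neg h]; simp

theorem kap_eq_cvec (i : Fin 4) : (fun m => fv i m + q0 * gv i m) = cvec (fun j => if j = i then 1 else 0) q0 := by
  funext m
  unfold cvec
  simp

theorem kap_th (hq : (p : ℤ) ∣ q0 ^ 2 + 1) (i : Fin 4) (x : Fin 8 → ℤ) :
    kap p q0 i (th x) = (q0 : ZMod p) * kap p q0 i x := by
  rw [kap_apply, kap_apply, kap_eq_cvec, dot_cvec_th]
  have h1 : (((q0 ^ 2 + 1 : ℤ)) : ZMod p) = 0 := (ZMod.intCast_zmod_eq_zero_iff_dvd _ _).2 hq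
  rw [Int.cast_sub, Int.cast_mul, Int.cast_mul, h1, zero_mul, sub_zero]

/-- an element of the eigenspace is determined by its coordinates -/
theorem eig_eq (c : (Fin 8 → ℤ) →+ ZMod p) (hc : ∀ x, c (th x) = (q0 : ZMod p) * c x) (x : Fin 8 → ℤ) :
    c x = ∑ j, c (sr (cidx j)) * kap p q0 j x := by
  let c' : (Fin 8 → ℤ) →+ ZMod p := ∑ j, (AddMonoidHom.mulLeft (c (sr (cidx j)))).comp (kap p q0 j)
  have h1 : ∀ x, c' x = ∑ j, c (sr (cidx j)) * kap p q0 j x := by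
    intro x
    show (∑ j, (AddMonoidHom.mulLeft (c (sr (cidx j)))).comp (kap p q0 j)) x = _
    rw [AddMonoidHom.finsetSum_apply]
    rfl
  rw [← h1]
  refine addHom_ext (f := c) (f' := c') (fun m => ?_) x
  rw [h1]
  have h2 : (sr m : Fin 8 → ℤ) = ∑ j, (fv j m • (sr (cidx j) : Fin 8 → ℤ) + gv j m • th (sr (cidx j))) := by
    funext t
    rw [Finset.sum_apply]
    simp only [Pi.add_apply, Pi.smul_apply, smul_eq_mul]
    have h3 : ∀ j, th (sr (cidx j)) = E8.u5M (cidx j) := fun j => E8.is_u5 e8T (cidx j)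
    simp only [h3, sr_apply']
    exact (span_idx m t).symm
  conv_lhs => rw [h2]
  rw [map_sum]
  refine Finset.sum_congr rfl fun j _ => ?_
  rw [map_add, map_zsmul, map_zsmul, hc, kap_apply, dot_sr, Int.cast_add, Int.cast_mul, zsmul_eq_mul, zsmul_eq_mul]
  ring

end functionals

/-! ### Elements of order seven commuting with `θ` -/

section seven

instance fact5 : Fact (Nat.Prime 5) := ⟨Nat.prime_five⟩

variable {q0 : ℤ} (hq : ((5 : ℕ) : ℤ) ∣ q0 ^ 2 + 1)

/-- the matrix on the eigenspace -/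
noncomputable def QM (q0 : ℤ) (w : CoxeterMatrix.E₈.Group) : Matrix (Fin 4) (Fin 4) (ZMod 5) :=
  fun i j => kap 5 q0 i (ac e8T w (sr (cidx j)))

include hq

theorem kap_ac {w : CoxeterMatrix.E₈.Group} (hw : ∀ x, ac e8T w (th x) = th (ac e8T w x)) (i : Fin 4)
    (x : Fin 8 → ℤ) : kap 5 q0 i (ac e8T w x) = ∑ m, QM q0 w i m * kap 5 q0 m x :=
  eig_eq ((kap 5 q0 i).comp (ac e8T w)) (fun x => by
    show kap 5 q0 i (ac e8T w (th x)) = (q0 : ZMod 5) * kap 5 q0 i (ac e8T w x)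
    rw [hw, kap_th hq]) x

theorem QM_mul {w v : CoxeterMatrix.E₈.Group} (hw : ∀ x, ac e8T w (th x) = th (ac e8T w x)) :
    QM q0 (w * v) = QM q0 w * QM q0 v := by
  ext i j
  rw [Matrix.mul_apply]
  show kap 5 q0 i (ac e8T (w * v) (sr (cidx j))) = _
  rw [ac_mul, kap_ac hq hw]
  rfl

omit hq in
theorem QM_one : QM q0 (1 : CoxeterMatrix.E₈.Group) = 1 := by
  ext i j
  show kap 5 q0 i (ac e8T 1 (sr (cidx j))) = _
  rw [ac_one, kap_idx, Matrix.one_apply]

theorem QM_pow {w : CoxeterMatrix.E₈.Group} (hw : ∀ x, ac e8T w (th x) = th (ac e8T w x)) (n : ℕ) :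
    QM q0 (w ^ n) = QM q0 w ^ n := by
  induction n with
  | zero => rw [pow_zero, pow_zero, QM_one]
  | succ n ih => rw [pow_succ', pow_succ', QM_mul hq hw, ih]

omit hq in
theorem eq_one_of_pow_seven {Q : Matrix (Fin 4) (Fin 4) (ZMod 5)} (h : Q ^ 7 = 1) : Q = 1 := by
  have h1 : IsUnit Q := IsUnit.of_pow_eq_one h (by norm_num)
  obtain ⟨u, rfl⟩ := h1
  have h2 : u ^ 7 = 1 := Units.ext (by rw [Units.val_pow_eq_pow_val, h, Units.val_one])
  have h3 : orderOf u ∣ 7 := orderOf_dvd_of_pow_eq_one h2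
  have h4 : orderOf u ∣ Nat.card (GL (Fin 4) (ZMod 5)) := orderOf_dvd_natCard u
  rw [Matrix.card_GL_field, ZMod.card] at h4
  have h5 : orderOf u ∣ Nat.gcd 7 (∏ i : Fin 4, (5 ^ 4 - 5 ^ (i : ℕ))) := Nat.dvd_gcd h3 h4
  have h6 : Nat.gcd 7 (∏ i : Fin 4, (5 ^ 4 - 5 ^ (i : ℕ))) = 1 := by decide +kernel
  rw [h6, Nat.dvd_one, orderOf_eq_one_iff] at h5
  rw [h5, Units.val_one]

/-- the functional `B x (θ y - q0 y)` -/
noncomputable def fB (q0 : ℤ) (y : Fin 8 → ℤ) : (Fin 8 → ℤ) →+ ZMod 5 where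
  toFun x := ((BE x (th y - q0 • y) : ℤ) : ZMod 5)
  map_zero' := by rw [isFormE.zero]; simp
  map_add' a b := by rw [isFormE.add]; simp

omit hq in
theorem BE_zsmul (n : ℤ) (u v : Fin 8 → ℤ) : BE u (n • v) = n * BE u v := by
  have h1 : ∀ (n : ℤ) (u v : Fin 8 → ℤ), BE (n • u) v = n * BE u v := by
    have hn : ∀ (n : ℕ) (u v : Fin 8 → ℤ), BE (n • u) v = n * BE u v := by
      intro n u v
      induction n with
      | zero => rw [zero_smul, isFormE.zero]; simp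
      | succ n ih => rw [succ_nsmul, isFormE.add, ih]; push_cast; ring
    intro n u v
    obtain ⟨n, rfl | rfl⟩ := n.eq_nat_or_neg
    · rw [natCast_zsmul, hn]
    · rw [neg_smul, isFormE.neg, natCast_zsmul, hn]; ring
  rw [isFormE.comm, h1, isFormE.comm]

omit hq in
/-- the eigenvalue relation over `ℤ` -/
theorem BE_th (x y : Fin 8 → ℤ) :
    BE (th x) (th y - q0 • y) = q0 * BE x (th y - q0 • y) + (q0 ^ 2 + 1) * BE x y := by
  have h1 : BE (th x) y = -BE x (th y) := by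
    rw [← th_iso.iso (th x) y, th_sq, isFormE.neg]
  rw [isFormE.sub', isFormE.sub', th_iso.iso, BE_zsmul, BE_zsmul, h1]
  ring

theorem fB_th (x y : Fin 8 → ℤ) : fB q0 y (th x) = (q0 : ZMod 5) * fB q0 y x := by
  show ((BE (th x) (th y - q0 • y) : ℤ) : ZMod 5) = (q0 : ZMod 5) * ((BE x (th y - q0 • y) : ℤ) : ZMod 5)
  have h1 : (((q0 ^ 2 + 1 : ℤ)) : ZMod 5) = 0 := (ZMod.intCast_zmod_eq_zero_iff_dvd _ 5).2 hq
  rw [BE_th, Int.cast_add, Int.cast_mul, Int.cast_mul, h1, zero_mul, add_zero]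

omit hq in
theorem not_dvd_two (h : ((5 : ℕ) : ℤ) ∣ q0 ^ 2 + 1) : ¬ ((5 : ℕ) : ℤ) ∣ 2 * q0 := by
  intro h1
  have h5 : Prime ((5 : ℕ) : ℤ) := Nat.prime_iff_prime_int.1 Nat.prime_five
  rcases h5.dvd_or_dvd h1 with h2 | h2
  · revert h2; decide
  · have h3 : ((5 : ℕ) : ℤ) ∣ q0 ^ 2 := dvd_pow h2 two_ne_zero
    have h4 := dvd_sub h h3
    rw [add_sub_cancel_left] at h4
    revert h4
    decide

/-- **elements of order seven** -/
theorem eq_one_seven {y : CoxeterMatrix.E₈.Group} (hy : ∀ x, ac e8T y (th x) = th (ac e8T y x)) (h7 : y ^ 7 = 1) :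
    y = 1 := by
  have h1 : QM q0 y = 1 := eq_one_of_pow_seven (by rw [← QM_pow hq hy, h7, QM_one])
  have h2 : ∀ i x, kap 5 q0 i (ac e8T y x) = kap 5 q0 i x := by
    intro i x
    rw [kap_ac hq hy, h1]
    simp only [Matrix.one_apply]
    simp
  have h3 : Quad BE ((5 : ℕ) : ℤ) (ac e8T y) := by
    have h5p : Prime ((5 : ℕ) : ℤ) := Nat.prime_iff_prime_int.1 Nat.prime_five
    have h2q := not_dvd_two hq
    have hyo := isoE y
    generalize ac e8T y = w at hy h2 hyo ⊢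
    have htho := th_iso
    have hths := th_sq
    refine quad_of_eig_pi (θ := th) (q0 := q0) (s := ((5 : ℕ) : ℤ)) isFormE hyo htho hths hy h5p h2q ?_
    intro x z
    have h4 := eig_eq (fB q0 z) (fun x => fB_th hq x z) (w x)
    have h5 := eig_eq (fB q0 z) (fun x => fB_th hq x z) x
    simp only [h2] at h4
    rw [← h5] at h4
    have h6 : ((BE (w x - x) (th z - q0 • z) : ℤ) : ZMod 5) = 0 := by
      rw [isFormE.sub, Int.cast_sub, sub_eq_zero]
      exact h4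
    exact (ZMod.intCast_zmod_eq_zero_iff_dvd _ 5).1 h6
  exact fixE fun i => five isFormE (isoE y) Nat.prime_five le_rfl h3 (normE_sr i)

end seven

end Cfsg.Agent.H574.ExcE8Five
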