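import Cfsg.Agent.H572.ExcC

/-!
# `PairN` when `θ² = -1` (helper574, S4350)

`θ` an automorphism of the root lattice with `θ² = -1`, `q0² ≡ -1` modulo `s`.
* `quad_of_eig`, `quad_of_eig'` : an isometry commuting with `θ` acting quadratically (trivially) on the characters with
  `c θ = q0 c` acts quadratically on the lattice modulo `s`;
* `qcond_eig` : the condition `QCond`;
* `exists_TG` : torus elements with given characters.
-/

set_option autoImplicit false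
set_option linter.unusedSectionVars false

namespace Cfsg.Agent.H574.ExcE8FiveA

open CoxeterSystem Cfsg Cfsg.Lie Cfsg.Lie.ChevalleyDatum
open Cfsg.Agent.ChevalleyStructure Cfsg.Agent.ChevalleyStructure.Elts Cfsg.Agent.ChevalleyStructure.CoxeterGeom
  Cfsg.Agent.ChevalleyStructure.CoxeterGeomTypes Cfsg.Agent.ChevalleyStructure.NPerm
open Cfsg.Agent.Tits.Roots Cfsg.Agent.Tits.Core Cfsg.Agent.Nodes Cfsg.Agent.Nodes.Reps Cfsg.Agent.Nodes.BNOf
  Cfsg.Agent.Nodes.RGDChev Cfsg.Agent.Nodes.Bruhat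
open Cfsg.Agent.KFacts.RgdField Cfsg.Agent.KFacts.RgdChevCoord Cfsg.Agent.BpExc.TorCent Cfsg.Agent.BpExc.TorChev
open Cfsg.Agent.GpExc.Field Cfsg.Agent.BpExc.Tow Cfsg.Agent.BpExc.TowChev Cfsg.Agent.BpExc.Fr
  Cfsg.Agent.BpExc.LangFr Cfsg.Agent.H129.TorusChar Cfsg.Agent.H129.TorusMain Cfsg.Agent.H123.ExcZ
open Cfsg.Agent.BpExc Cfsg.Agent.H795.LangT Cfsg.Agent.H795.Core Cfsg.Agent.H795.NotAbT
open Cfsg.Agent.H572.ExcA Cfsg.Agent.H572.ExcB Cfsg.Agent.H572.ExcC Cfsg.Agent.H572.LatQ Cfsg.Agent.H572.LatForm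
  Cfsg.Agent.H572.HallCore Cfsg.Agent.H572.HallPair
open Cfsg.Agent.H553.OddHall
open Subgroup
open scoped commutatorElement

universe u v

section lattice

variable {L : Type*} [AddCommGroup L] {B : L → L → ℤ} {w θ : L →+ L} {s q0 : ℤ}

/-- quadratic action on the eigenspace of the characters -/
theorem quad_of_eig (h : IsForm B) (hw : Iso B w) (hθ : Iso B θ) (hθ2 : ∀ x, θ (θ x) = -x)
    (hc : ∀ x, w (θ x) = θ (w x)) (hs : Prime s) (h2 : ¬ s ∣ 2 * q0)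
    (hq : ∀ x y, s ∣ B (w (w x) - w x - (w x - x)) (θ y - q0 • y)) : Quad B s w := by
  have hz : ∀ (u v : L), B u (q0 • v) = q0 * B u v := by
    intro u v
    have h1 : ∀ (n : ℤ) (u v : L), B (n • u) v = n * B u v := by
      have hn : ∀ (n : ℕ) (u v : L), B (n • u) v = n * B u v := by
        intro n u v
        induction n with
        | zero => rw [zero_smul, h.zero]; simp
        | succ n ih => rw [succ_nsmul, h.add, ih]; push_cast; ring
      intro n u v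
      obtain ⟨n, rfl | rfl⟩ := n.eq_nat_or_neg
      · rw [natCast_zsmul, hn]
      · rw [neg_smul, h.neg, natCast_zsmul, hn]; ring
    rw [h.comm, h1, h.comm]
  -- the first relation
  have a1 : ∀ x y, s ∣ -B (w (w (θ x)) - w (θ x) - (w (θ x) - θ x)) y - q0 * B (w (w x) - w x - (w x - x)) y := by
    intro x y
    have h1 := hq x y
    rw [h.sub', hz] at h1
    have e1 : B (w (w x) - w x - (w x - x)) (θ y) = -B (w (w (θ x)) - w (θ x) - (w (θ x) - θ x)) y := by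
      rw [← hθ.iso, hθ2, h.neg', map_sub, map_sub, map_sub, hc, hc]
    rwa [e1] at h1
  -- the adjoint relation
  have a2 : ∀ x u, B (w (w x) - w x - (w x - x)) (w (w u)) = B (w (w u) - w u - (w u - u)) x := by
    intro x u
    simp only [h.sub]
    rw [hw.iso, hw.iso, hw.iso, h.comm x u, h.comm x (w u), h.comm x (w (w u))]
    ring
  have a3 : ∀ x y, s ∣ B (w (w (θ y)) - w (θ y) - (w (θ y) - θ y)) x - q0 * B (w (w y) - w y - (w y - y)) x := by
    intro x y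
    have h1 := hq x (w (w y))
    have e1 : θ (w (w y)) - q0 • w (w y) = w (w (θ y - q0 • y)) := by
      rw [map_sub, map_sub, hc, hc, map_zsmul, map_zsmul]
    rw [e1, a2] at h1
    have e2 : B (w (w (θ y - q0 • y)) - w (θ y - q0 • y) - (w (θ y - q0 • y) - (θ y - q0 • y))) x =
        B (w (w (θ y)) - w (θ y) - (w (θ y) - θ y)) x - q0 * B (w (w y) - w y - (w y - y)) x := by
      have e3 : w (w (θ y - q0 • y)) - w (θ y - q0 • y) - (w (θ y - q0 • y) - (θ y - q0 • y)) =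
          (w (w (θ y)) - w (θ y) - (w (θ y) - θ y)) - q0 • (w (w y) - w y - (w y - y)) := by
        rw [map_sub, map_sub, map_zsmul, map_zsmul, smul_sub, smul_sub, smul_sub]
        abel
      rw [e3, h.sub, h.comm (q0 • _), hz, h.comm x]
    rwa [e2] at h1
  intro x y
  have h1 := dvd_add (a1 x y) (a3 y x)
  have e1 : -B (w (w (θ x)) - w (θ x) - (w (θ x) - θ x)) y - q0 * B (w (w x) - w x - (w x - x)) y +
      (B (w (w (θ x)) - w (θ x) - (w (θ x) - θ x)) y - q0 * B (w (w x) - w x - (w x - x)) y) =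
      -(2 * q0 * B (w (w x) - w x - (w x - x)) y) := by ring
  rw [e1, dvd_neg] at h1
  exact (hs.dvd_or_dvd h1).resolve_left h2

/-- trivial action on the eigenspace of the characters -/
theorem quad_of_eig' (h : IsForm B) (hw : Iso B w) (hθ : Iso B θ) (hθ2 : ∀ x, θ (θ x) = -x)
    (hc : ∀ x, w (θ x) = θ (w x)) (hs : Prime s) (h2 : ¬ s ∣ 2 * q0)
    (hq : ∀ x y, s ∣ B (w x - x) (θ y - q0 • y)) : Quad B s w := by
  apply quad_of_eig h hw hθ hθ2 hc hs h2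
  intro x y
  have h1 := hq (w x) y
  have h3 := hq x y
  rw [h.sub]
  exact dvd_sub h1 h3

theorem quad_of_eig_pi {l : ℕ} {B : (Fin l → ℤ) → (Fin l → ℤ) → ℤ} {w θ : (Fin l → ℤ) →+ (Fin l → ℤ)} {s q0 : ℤ}
    (h : IsForm B) (hw : Iso B w) (hθ : Iso B θ) (hθ2 : ∀ x, θ (θ x) = -x)
    (hc : ∀ x, w (θ x) = θ (w x)) (hs : Prime s) (h2 : ¬ s ∣ 2 * q0)
    (hq : ∀ x y, s ∣ B (w x - x) (θ y - q0 • y)) : Quad B s w :=
  quad_of_eig' h hw hθ hθ2 hc hs h2 hq

/-- `x ↦ B x y` -/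
def formHom {l : ℕ} {B : (Fin l → ℤ) → (Fin l → ℤ) → ℤ} (h : IsForm B) (y : Fin l → ℤ) : (Fin l → ℤ) →+ ℤ where
  toFun x := B x y
  map_zero' := h.zero y
  map_add' a b := h.add a b y

theorem formHom_apply {l : ℕ} {B : (Fin l → ℤ) → (Fin l → ℤ) → ℤ} (h : IsForm B) (x y : Fin l → ℤ) :
    formHom h y x = B x y := rfl

end lattice

variable {D : ChevalleyDatum} {l : ℕ} {M : CoxeterMatrix (Fin l)} {hp : IsType D l M}
  {k : Type u} [Field k] [IsAlgClosed k] {hk : LocFin k} {r : ℕ} [Fact r.Prime] [CharP k r]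
  {G : Type v} [Group G] {κ : G →* ↥(D.group k)}

variable (κ) in
/-- test elements with characters in an eigenspace of `θ` -/
def TstE (hp : IsType D l M) (A : Subgroup G) (ζ : k) (B : (Fin l → ℤ) → (Fin l → ℤ) → ℤ)
    (θ : (Fin l → ℤ) →+ (Fin l → ℤ)) (q0 : ℤ) : Prop :=
  ∀ y, ∃ a ∈ A, ∀ x, cX hp (κ a) x = ζ ^ (B x (θ y - q0 • y))

variable {A S : Subgroup G} {B : (Fin l → ℤ) → (Fin l → ℤ) → ℤ} {s : ℕ} {ζ : k} {θ : (Fin l → ℤ) →+ (Fin l → ℤ)}
  {q0 : ℤ} {V : Subgroup M.Group} {ι : Type*} {e : ι → (Fin l → ℤ)}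

/-- **`QCond`.** -/
theorem qcond_eig (hs : s.Prime) (hs5 : 5 ≤ s) (hAT : A ≤ TG κ) (hSN : S ≤ NG hp hk r κ) (hSA : S ⊓ TG κ ≤ A)
    (hV : im hp hk r κ S ≤ V) (hF : FData hp B V e) (hθ : Iso B θ) (hθ2 : ∀ x, θ (θ x) = -x)
    (hVθ : ∀ w ∈ V, ∀ x, ac hp w (θ x) = θ (ac hp w x)) (h2 : ¬ (s : ℤ) ∣ 2 * q0) (hζ : IsPrimitiveRoot ζ s)
    (ht : TstE κ hp A ζ B θ q0) : QCond A S := by
  intro L hAL hLS hq _ hne
  exfalso
  apply hne
  apply le_antisymm _ hAL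
  intro u hu
  obtain ⟨w, hw⟩ := hSN (hLS hu)
  have hwV : w⁻¹ ∈ V := inv_mem (hV ⟨u, hLS hu, hw⟩)
  have h1 : Quad B s (ac hp w⁻¹) := by
    refine quad_of_eig hF.form (hF.iso _ hwV) hθ hθ2 (fun x => hVθ _ hwV x) (Nat.prime_iff_prime_int.1 hs) h2 ?_
    intro x y
    obtain ⟨a, ha, hax⟩ := ht y
    have haT := hAT ha
    have h1 : cX hp (κ ⁅⁅a, u⁆, u⁆) x = 1 := by rw [hq u hu a ha, map_one, cX_one]
    rw [char_comm (comm_mem_TG haT ⟨w, hw⟩) hw, char_comm haT hw, hax, hζ.zpow_eq_one_iff_dvd] at h1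
    have h2 : x - ac hp w⁻¹ x - ac hp w⁻¹ (x - ac hp w⁻¹ x) =
        ac hp w⁻¹ (ac hp w⁻¹ x) - ac hp w⁻¹ x - (ac hp w⁻¹ x - x) := by
      rw [map_sub]
      abel
    rw [h2] at h1
    exact h1
  have h2 : w⁻¹ = 1 := hF.fix _ hwV fun i => five hF.form (hF.iso _ hwV) hs hs5 h1 (hF.norm i)
  rw [inv_eq_one] at h2
  rw [h2] at hw
  exact hSA ⟨hLS hu, hw.mem_of_one⟩

/-- **torus elements of `G` with given characters** -/
theorem exists_TG {d : ℕ} {Bi : Fin l → Fin l → ℤ} (hB : InvC D l d Bi) (hd : d ≠ 0) {e : ℕ}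
    {τ : MulAut ↥(D.group k)} {Θ : (Fin l → ℤ) ≃+ (Fin l → ℤ)} (hfr : IsFrob r e τ)
    (F : Fr M.toCoxeterSystem hp.isCartan (TT D k) (XX D l k) τ Θ) (hfull : ∀ y, τ y = y → ∃ x, κ x = y)
    {φ : (Fin l → ℤ) → k} (hφ : IsMC φ) (hφθ : ∀ x, φ (Θ x) = φ x ^ r ^ e) :
    ∃ a ∈ TG κ, ∀ x, cX hp (κ a) x = φ x := by
  obtain ⟨t, ht, hct⟩ := exists_cX hp hB hd hφ (fun i => IsAlgClosed.exists_pow_nat_eq _ (Nat.pos_of_ne_zero hd))
  have hτt : τ t ∈ TT D k := (F.tor t).2 ht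
  have hfix : τ t = t := by
    refine cX_inj hp hτt ht fun i => ?_
    obtain ⟨x, hx⟩ := Θ.surjective (sr i)
    rw [← hx, cX_sigma hp M.toCoxeterSystem hfr F ht, hct, hct, hφθ]
  obtain ⟨a, ha⟩ := hfull t hfix
  exact ⟨a, by rw [mem_TG, ha]; exact ht, fun x => by rw [ha, hct]⟩

/-- `θ` as an automorphism -/
noncomputable def thEq (hp : IsType D l M) (w : M.Group) : (Fin l → ℤ) ≃+ (Fin l → ℤ) :=
  (AddEquiv.refl (Fin l → ℤ)).trans (repAut M.toCoxeterSystem hp.isCartan w)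

theorem thEq_apply (w : M.Group) (x : Fin l → ℤ) : thEq hp w x = ac hp w x := rfl

theorem mem_CT_thEq {w v : M.Group} (hw : w ∈ CT hp (thEq hp v)) (x : Fin l → ℤ) :
    ac hp w (ac hp v x) = ac hp v (ac hp w x) := hw x

/-- regularity -/
theorem reg_of_eig (hform : IsForm B) (hθ : Iso B θ) (hθ2 : ∀ x, θ (θ x) = -x) (hs : s.Prime)
    (h2 : ¬ (s : ℤ) ∣ 2 * q0) (hζ : IsPrimitiveRoot ζ s) (ht : TstE κ hp A ζ B θ q0) {a : Fin l → ℤ}
    (ha : B a a = 2) : ∃ x ∈ A, cX hp (κ x) a ≠ 1 := by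
  obtain ⟨x, hx, hxa⟩ := ht a
  refine ⟨x, hx, fun h3 => h2 ?_⟩
  rw [hxa, hζ.zpow_eq_one_iff_dvd] at h3
  have h4 : B a (θ a) = 0 := by
    have h5 : B (θ a) (θ (θ a)) = B a (θ a) := hθ.iso _ _
    rw [hθ2, hform.neg', hform.comm (θ a) a] at h5
    omega
  have h5 : B a (q0 • a) = q0 * 2 := by
    have h1 : ∀ (n : ℤ) (u v : Fin l → ℤ), B (n • u) v = n * B u v := by
      have hn : ∀ (n : ℕ) (u v : Fin l → ℤ), B (n • u) v = n * B u v := by
        intro n u v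
        induction n with
        | zero => rw [zero_smul, hform.zero]; simp
        | succ n ih => rw [succ_nsmul, hform.add, ih]; push_cast; ring
      intro n u v
      obtain ⟨n, rfl | rfl⟩ := n.eq_nat_or_neg
      · rw [natCast_zsmul, hn]
      · rw [neg_smul, hform.neg, natCast_zsmul, hn]; ring
    rw [hform.comm, h1, ha]
  rw [hform.sub', h4, h5, zero_sub, dvd_neg, mul_comm] at h3
  exact h3

end Cfsg.Agent.H574.ExcE8FiveA
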