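import Mathlib
import Cfsg.Agent.H574.Redund

/-!
# `GL_p(q)` with `p` odd, `p ∥ q - 1`, has redundant Sylow `p`-subgroups
-/

set_option autoImplicit false

open Subgroup Pointwise Matrix

namespace Cfsg.Agent.H574.GLPrime

variable {F : Type*} [Field F] {p : ℕ} [Fact p.Prime]

/-- monomial matrix: entry `a i` at place `(i, i - j)` -/
def Mon (a : ZMod p → Fˣ) (j : ZMod p) : Matrix (ZMod p) (ZMod p) F :=
  fun i k => if i = k + j then (a i : F) else 0

theorem Mon_apply (a : ZMod p → Fˣ) (j i k : ZMod p) :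
    Mon a j i k = if i = k + j then (a i : F) else 0 := rfl

theorem Mon_mul (a b : ZMod p → Fˣ) (j l : ZMod p) :
    Mon a j * Mon b l = Mon (fun i => a i * b (i - j)) (j + l) := by
  ext i m
  rw [Matrix.mul_apply, Finset.sum_eq_single (i - j)]
  · simp only [Mon_apply, sub_add_cancel, if_true]
    by_cases h : i = m + (j + l)
    · rw [if_pos h, if_pos (by rw [h]; ring)]; simp
    · rw [if_neg h, if_neg (by intro h2; apply h; linear_combination h2)]; simp
  · intro k _ hk
    rw [Mon_apply, if_neg (by intro h; apply hk; rw [h]; ring), zero_mul]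
  · intro h; exact absurd (Finset.mem_univ _) h

theorem Mon_one : Mon (fun _ => 1) 0 = (1 : Matrix (ZMod p) (ZMod p) F) := by
  ext i k
  rw [Mon_apply, add_zero, Matrix.one_apply]
  simp

theorem Mon_inv_mul (a : ZMod p → Fˣ) (j : ZMod p) :
    Mon a j * Mon (fun i => (a (i + j))⁻¹) (-j) = 1 := by
  rw [Mon_mul, ← Mon_one]
  congr 1
  · funext i
    simp
  · ring

theorem Mon_mul_inv (a : ZMod p → Fˣ) (j : ZMod p) :
    Mon (fun i => (a (i + j))⁻¹) (-j) * Mon a j = 1 := by
  rw [Mon_mul, ← Mon_one]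
  congr 1
  · funext i
    simp
  · ring

theorem Mon_inj {a b : ZMod p → Fˣ} {j l : ZMod p} (h : Mon a j = Mon b l) : a = b ∧ j = l := by
  have hjl : j = l := by
    have h1 := congrFun (congrFun h 0) (0 - j)
    rw [Mon_apply, Mon_apply, if_pos (by ring)] at h1
    by_contra hne
    rw [if_neg (by intro h2; apply hne; linear_combination h2)] at h1
    exact (a 0).ne_zero h1
  refine ⟨?_, hjl⟩
  funext i
  have h1 := congrFun (congrFun h i) (i - j)
  rw [Mon_apply, Mon_apply, if_pos (by ring), if_pos (by rw [← hjl]; ring)] at h1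
  exact Units.ext h1

/-- the monomial matrix as a unit -/
def MonU (a : ZMod p → Fˣ) (j : ZMod p) : GL (ZMod p) F :=
  ⟨Mon a j, Mon (fun i => (a (i + j))⁻¹) (-j), Mon_inv_mul a j, Mon_mul_inv a j⟩

theorem coe_MonU (a : ZMod p → Fˣ) (j : ZMod p) :
    ((MonU a j : GL (ZMod p) F) : Matrix (ZMod p) (ZMod p) F) = Mon a j := rfl

variable (F p) in
/-- the monomial group with entries `p`-th roots of unity and cyclic permutations -/
def QQ : Subgroup (GL (ZMod p) F) where
  carrier := {g | ∃ (a : ZMod p → Fˣ) (j : ZMod p), (∀ i, a i ^ p = 1) ∧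
    (g : Matrix (ZMod p) (ZMod p) F) = Mon a j}
  one_mem' := ⟨fun _ => 1, 0, fun _ => one_pow p, by rw [Mon_one]; rfl⟩
  mul_mem' := by
    rintro g h ⟨a, j, ha, hg⟩ ⟨b, l, hb, hh⟩
    refine ⟨fun i => a i * b (i - j), j + l, ?_, ?_⟩
    · intro i; rw [mul_pow, ha, hb, one_mul]
    · rw [Units.val_mul, hg, hh, Mon_mul]
  inv_mem' := by
    rintro g ⟨a, j, ha, hg⟩
    refine ⟨fun i => (a (i + j))⁻¹, -j, ?_, ?_⟩
    · intro i; rw [inv_pow, ha, inv_one]
    · apply Units.inv_eq_of_mul_eq_one_right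
      rw [hg, Mon_inv_mul]

theorem mem_QQ {g : GL (ZMod p) F} : g ∈ QQ F p ↔ ∃ (a : ZMod p → Fˣ) (j : ZMod p),
    (∀ i, a i ^ p = 1) ∧ (g : Matrix (ZMod p) (ZMod p) F) = Mon a j := Iff.rfl

variable (F p) in
noncomputable def equivQQ : (ZMod p → rootsOfUnity p F) × ZMod p ≃ QQ F p := by
  refine Equiv.ofBijective (fun x => ⟨MonU (fun i => (x.1 i : Fˣ)) x.2,
    ⟨_, _, fun i => (mem_rootsOfUnity p _).1 (x.1 i).2, rfl⟩⟩) ⟨?_, ?_⟩
  · rintro ⟨a, j⟩ ⟨b, l⟩ h
    have h1 : Mon (fun i => (a i : Fˣ)) j = Mon (fun i => (b i : Fˣ)) l :=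
      congrArg (fun g : QQ F p => ((g : GL (ZMod p) F) : Matrix (ZMod p) (ZMod p) F)) h
    obtain ⟨h2, h3⟩ := Mon_inj h1
    refine Prod.ext ?_ h3
    funext i
    exact Subtype.ext (congrFun h2 i)
  · rintro ⟨g, a, j, ha, hg⟩
    refine ⟨⟨fun i => ⟨a i, (mem_rootsOfUnity p _).2 (ha i)⟩, j⟩, ?_⟩
    apply Subtype.ext
    apply Units.ext
    exact hg.symm

theorem card_QQ {w : F} (hw : IsPrimitiveRoot w p) : Nat.card (QQ F p) = p ^ (p + 1) := by
  have : NeZero p := ⟨(Fact.out : p.Prime).ne_zero⟩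
  rw [← Nat.card_congr (equivQQ F p), Nat.card_prod, Nat.card_fun, Nat.card_zmod,
    hw.card_rootsOfUnity, pow_succ]

/-- powers -/
theorem Mon_pow (a : ZMod p → Fˣ) (j : ZMod p) (n : ℕ) :
    Mon a j ^ n = Mon (fun i => ∏ t ∈ Finset.range n, a (i - (t : ZMod p) * j)) ((n : ZMod p) * j) := by
  induction n with
  | zero => rw [pow_zero, ← Mon_one]; congr 1 <;> simp
  | succ n ih =>
    rw [pow_succ, ih, Mon_mul]
    congr 1
    · funext i; rw [Finset.prod_range_succ]
    · push_cast; ring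

theorem prod_range_zmod {M : Type*} [CommMonoid M] (f : ZMod p → M) :
    ∏ t ∈ Finset.range p, f (t : ZMod p) = ∏ t : ZMod p, f t := by
  refine Finset.prod_bij' (fun t _ => (t : ZMod p)) (fun t _ => t.val) ?_ ?_ ?_ ?_ ?_
  · intro t _; exact Finset.mem_univ _
  · intro t _; exact Finset.mem_range.2 (ZMod.val_lt t)
  · intro t ht; exact ZMod.val_natCast_of_lt (Finset.mem_range.1 ht)
  · intro t _; exact ZMod.natCast_zmod_val t
  · intro t _; rfl

theorem Mon_pow_p (a : ZMod p → Fˣ) (j : ZMod p) (hj : j ≠ 0) :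
    Mon a j ^ p = ((∏ i, a i : Fˣ) : F) • (1 : Matrix (ZMod p) (ZMod p) F) := by
  rw [Mon_pow]
  have h1 : ∀ i, ∏ t ∈ Finset.range p, a (i - (t : ZMod p) * j) = ∏ i, a i := by
    intro i
    rw [prod_range_zmod (fun t => a (i - t * j))]
    let e : ZMod p ≃ ZMod p :=
      { toFun := fun t => i - t * j
        invFun := fun s => (i - s) * j⁻¹
        left_inv := fun t => by
          have : (i - (i - t * j)) * j⁻¹ = t * (j * j⁻¹) := by ring
          simp only [this, mul_inv_cancel₀ hj, mul_one]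
        right_inv := fun s => by
          have : i - (i - s) * j⁻¹ * j = i - (i - s) * (j * j⁻¹) := by ring
          simp only [this, mul_inv_cancel₀ hj, mul_one]
          ring }
    exact Equiv.prod_comp e a
  ext i k
  rw [Mon_apply, h1, Matrix.smul_apply, Matrix.one_apply, ZMod.natCast_self, zero_mul, add_zero]
  simp

/-! ### The order of `GL_p(q)` -/

theorem card_GL_zmod [Fintype F] : Nat.card (GL (ZMod p) F) =
    ∏ i ∈ Finset.range p, (Fintype.card F ^ p - Fintype.card F ^ i) := by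
  have e : GL (ZMod p) F ≃* GL (Fin p) F :=
    Units.mapEquiv (Matrix.reindexRingEquiv F (ZMod.finEquiv p).toEquiv.symm).toMulEquiv
  rw [Nat.card_congr e.toEquiv, Matrix.card_GL_field]
  exact Fin.prod_univ_eq_prod_range (fun i => Fintype.card F ^ p - Fintype.card F ^ i) p

theorem factorization_card [Fintype F] (hp : p ≠ 2) (h1 : p ∣ Fintype.card F - 1)
    (h2 : ¬ p ^ 2 ∣ Fintype.card F - 1) : (Nat.card (GL (ZMod p) F)).factorization p = p + 1 := by
  have hpp : p.Prime := Fact.out
  have hq : 1 < Fintype.card F := Fintype.one_lt_card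
  set q := Fintype.card F with hqd
  have hodd : Odd p := hpp.odd_of_ne_two hp
  have hnq : ¬ p ∣ q := by
    intro h
    have h3 : p ∣ 1 := by
      have : q - (q - 1) = 1 := by omega
      rw [← this]; exact Nat.dvd_sub h h1
    exact hpp.one_lt.ne' (Nat.dvd_one.1 h3)
  have hv1 : padicValNat p (q - 1) = 1 := by
    have hne : q - 1 ≠ 0 := by omega
    have ha := (padicValNat_dvd_iff_le (p := p) (a := q - 1) (n := 1) hne).1 (by rwa [pow_one])
    have hb : ¬ 2 ≤ padicValNat p (q - 1) := fun h => h2 ((padicValNat_dvd_iff_le hne).2 h)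
    omega
  have hval : ∀ i ∈ Finset.range p, (q ^ p - q ^ i).factorization p = if i = 0 then 2 else 1 := by
    intro i hi
    rw [Finset.mem_range] at hi
    have h3 : q ^ p - q ^ i = q ^ i * (q ^ (p - i) - 1) := by
      rw [Nat.mul_sub, mul_one, ← pow_add]
      congr 2; omega
    have h4 : q ^ (p - i) - 1 ≠ 0 := by
      have : 1 < q ^ (p - i) := Nat.one_lt_pow (by omega) hq
      omega
    rw [h3, Nat.factorization_mul (by positivity) h4]
    simp only [Finsupp.coe_add, Pi.add_apply]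
    rw [Nat.factorization_eq_zero_of_not_dvd (fun h => hnq (hpp.dvd_of_dvd_pow h)), zero_add,
      Nat.factorization_def _ hpp]
    have h5 := padicValNat.pow_sub_pow (p := p) (x := q) (y := 1) hodd hq h1 hnq (n := p - i) (by omega)
    rw [one_pow, hv1] at h5
    rw [h5]
    by_cases h0 : i = 0
    · rw [if_pos h0, h0, Nat.sub_zero, padicValNat_self]
    · rw [if_neg h0, padicValNat.eq_zero_of_not_dvd]
      intro h
      have := Nat.le_of_dvd (by omega) h
      omega
  rw [card_GL_zmod, Nat.factorization_prod]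
  · rw [Finsupp.finsetSum_apply, Finset.sum_congr rfl hval]
    obtain ⟨m, rfl⟩ : ∃ m, p = m + 1 := ⟨p - 1, by have := hpp.pos; omega⟩
    rw [Finset.sum_range_succ']
    simp
  · intro i hi
    rw [Finset.mem_range] at hi
    have : q ^ i < q ^ p := Nat.pow_lt_pow_right hq hi
    exact (Nat.sub_pos_of_lt this).ne'

/-! ### The Sylow subgroup `QQ` and the elements outside -/

/-- Two Sylow subgroups from an element commuting with `x` but not normalizing. -/
theorem two_of_commute {G : Type*} [Group G] (Q : Sylow p G) {x c y : G} (hx : x ∈ Q)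
    (hc : x * c = c * x) (hy : y ∈ Q) (h : c⁻¹ * y * c ∉ Q) :
    ∃ P R : Sylow p G, P ≠ R ∧ x ∈ P ∧ x ∈ R := by
  refine ⟨c • Q, Q, ?_, ?_, hx⟩
  · intro he
    apply h
    rw [← mem_smul_iff, he]; exact hy
  · rw [mem_smul_iff, mul_assoc, hc, inv_mul_cancel_left]; exact hx

/-- The reflection with entry `w` at `i0`. -/
def rfl' (w : Fˣ) (i0 : ZMod p) : ZMod p → Fˣ := fun i => if i = i0 then w else 1

theorem rfl'_pow {w : Fˣ} (hw : w ^ p = 1) (i0 i : ZMod p) : rfl' w i0 i ^ p = 1 := by
  unfold rfl'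
  split_ifs
  · exact hw
  · exact one_pow p

/-- The conjugate in `QQ` of a reflection is diagonal. -/
theorem diag_of_conj (hp : p ≠ 2) {w : Fˣ} {i0 : ZMod p} {b : ZMod p → Fˣ} {l : ZMod p}
    {c : Matrix (ZMod p) (ZMod p) F} (hc : IsUnit c)
    (h : Mon (rfl' w i0) 0 * c = c * Mon b l) : l = 0 := by
  by_contra hl
  set y : Matrix (ZMod p) (ZMod p) F := Mon (rfl' w i0) 0 with hy
  set z : Matrix (ZMod p) (ZMod p) F := Mon b l with hz
  have h1 : (y - 1) * (y - (w : F) • (1 : Matrix (ZMod p) (ZMod p) F)) = 0 := by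
    have hyd : y = Matrix.diagonal (fun i => ((rfl' w i0 i : Fˣ) : F)) := by
      ext i k
      rw [hy, Mon_apply, add_zero, Matrix.diagonal_apply]
    rw [hyd, ← Matrix.diagonal_one, Matrix.diagonal_sub, ← Matrix.diagonal_smul, Matrix.diagonal_sub,
      Matrix.diagonal_mul_diagonal, ← Matrix.diagonal_zero]
    congr 1
    funext i
    unfold rfl'
    by_cases hi : i = i0
    · simp [hi]
    · simp [hi]
  have h2 : c * ((z - 1) * (z - (w : F) • (1 : Matrix (ZMod p) (ZMod p) F))) = 0 := by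
    have h3 : (y - 1) * c = c * (z - 1) := by rw [sub_mul, mul_sub, h, one_mul, mul_one]
    have h4 : (y - (w : F) • (1 : Matrix (ZMod p) (ZMod p) F)) * c =
        c * (z - (w : F) • (1 : Matrix (ZMod p) (ZMod p) F)) := by
      rw [sub_mul, mul_sub, h, smul_mul_assoc, one_mul, mul_smul_comm, mul_one]
    rw [← mul_assoc, ← h3, mul_assoc, ← h4, ← mul_assoc, h1, zero_mul]
  have h5 : (z - 1) * (z - (w : F) • (1 : Matrix (ZMod p) (ZMod p) F)) = 0 := by
    obtain ⟨u, rfl⟩ := hc
    rwa [Units.mul_right_eq_zero] at h2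
  have h6 : z * z = Mon (fun i => b i * b (i - l)) (l + l) := by rw [hz, Mon_mul]
  have h7 := congrFun (congrFun h5 0) 0
  have hll : l + l ≠ 0 := by
    intro h8
    have h9 : (2 : ZMod p) * l = 0 := by linear_combination h8
    rcases mul_eq_zero.1 h9 with h10 | h10
    · have h11 : ((2 : ℕ) : ZMod p) = 0 := by exact_mod_cast h10
      rw [ZMod.natCast_eq_zero_iff] at h11
      exact hp ((Nat.prime_dvd_prime_iff_eq Fact.out Nat.prime_two).1 h11)
    · exact hl h10
  have h8 : (z - 1) * (z - (w : F) • (1 : Matrix (ZMod p) (ZMod p) F)) =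
      z * z - (w : F) • z - z + (w : F) • (1 : Matrix (ZMod p) (ZMod p) F) := by
    rw [sub_mul, mul_sub, mul_smul_comm, mul_one, one_mul]
    abel
  rw [h8, h6, hz] at h7
  simp only [Matrix.add_apply, Matrix.sub_apply, Matrix.smul_apply, Mon_apply, Matrix.one_apply_eq,
    Matrix.zero_apply] at h7
  rw [if_neg (by simpa using hll.symm), if_neg (by simpa using Ne.symm hl)] at h7
  simp at h7

/-- The elements of `QQ` which are not diagonal. -/
theorem two_of_ne_zero (hp : p ≠ 2) (Q : Sylow p (GL (ZMod p) F)) (hQ : (Q : Subgroup _) = QQ F p)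
    {w : Fˣ} (hw : IsPrimitiveRoot w p) (hpF : (p : F) ≠ 0) {x : GL (ZMod p) F} {a : ZMod p → Fˣ}
    {j : ZMod p} (ha : ∀ i, a i ^ p = 1)
    (hx : (x : Matrix (ZMod p) (ZMod p) F) = Mon a j) (hj : j ≠ 0) :
    ∃ P R : Sylow p (GL (ZMod p) F), P ≠ R ∧ x ∈ P ∧ x ∈ R := by
  classical
  have hpp : p.Prime := Fact.out
  have hodd : Odd p := hpp.odd_of_ne_two hp
  have hw1 : w ≠ 1 := hw.ne_one hpp.one_lt
  have hQmem : ∀ g, g ∈ Q ↔ g ∈ QQ F p := by
    intro g; rw [← mem_coe_iff, hQ]
  have hxQ : x ∈ Q := (hQmem x).2 ⟨a, j, ha, hx⟩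
  have hyQ : MonU (rfl' w 0) 0 ∈ Q := (hQmem _).2 ⟨_, _, fun i => rfl'_pow hw.pow_eq_one 0 i, rfl⟩
  set ζ : F := ((∏ i, a i : Fˣ) : F) with hζ
  have hxp := Mon_pow_p a j hj
  rw [← hζ] at hxp
  have hζp : ζ ^ p = 1 := by
    rw [hζ, ← Units.val_pow_eq_pow_val, ← Finset.prod_pow]
    simp [ha]
  set X : Matrix (ZMod p) (ZMod p) F := Mon a j with hX
  -- it is enough to find a matrix
  have key : ∀ c d : Matrix (ZMod p) (ZMod p) F, ∀ s : F, s ≠ 0 → c * d = s • 1 → X * c = c * X →
      (∀ b : ZMod p → Fˣ, ¬ Mon (rfl' w 0) 0 * c = c * Mon b 0) →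
      ∃ P R : Sylow p (GL (ZMod p) F), P ≠ R ∧ x ∈ P ∧ x ∈ R := by
    intro c d s hs hcd hXc hb
    have hcd' : c * (s⁻¹ • d) = 1 := by
      rw [mul_smul_comm, hcd, smul_smul, inv_mul_cancel₀ hs, one_smul]
    have hdc' : (s⁻¹ • d) * c = 1 := mul_eq_one_comm.1 hcd'
    let C : GL (ZMod p) F := ⟨c, s⁻¹ • d, hcd', hdc'⟩
    apply two_of_commute Q (c := C) hxQ _ hyQ
    · rw [hQmem]
      rintro ⟨b, l, hbp, hbl⟩
      have h1 : Mon (rfl' w 0) 0 * c = c * Mon b l := by
        have h2 : MonU (rfl' w 0) 0 * C = C * (C⁻¹ * MonU (rfl' w 0) 0 * C) := by group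
        calc Mon (rfl' w 0) 0 * c = ((MonU (rfl' w 0) 0 * C : GL (ZMod p) F) :
              Matrix (ZMod p) (ZMod p) F) := rfl
          _ = ((C * (C⁻¹ * MonU (rfl' w 0) 0 * C) : GL (ZMod p) F) :
              Matrix (ZMod p) (ZMod p) F) := by rw [← h2]
          _ = c * Mon b l := by rw [Units.val_mul C, hbl]
      have hl : l = 0 := diag_of_conj hp (c := c) ⟨C, rfl⟩ h1
      subst hl
      exact hb b h1
    · apply Units.ext
      rw [Units.val_mul, Units.val_mul, hx]
      exact hXc
  have hrne : ∀ k : ZMod p, k ≠ 0 → rfl' w 0 k = 1 := by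
    intro k hk; unfold rfl'; rw [if_neg hk]
  have hr0 : rfl' w (0 : ZMod p) 0 = w := by unfold rfl'; rw [if_pos rfl]
  -- comparison of entries
  have entry : ∀ (c : Matrix (ZMod p) (ZMod p) F) (b : ZMod p → Fˣ),
      Mon (rfl' w 0) 0 * c = c * Mon b 0 → ∀ i k, c i k ≠ 0 → rfl' w 0 i = b k := by
    intro c b h i k hik
    have h1 := congrFun (congrFun h i) k
    rw [Matrix.mul_apply, Matrix.mul_apply, Finset.sum_eq_single i, Finset.sum_eq_single k] at h1
    · rw [Mon_apply, Mon_apply, if_pos (by ring), if_pos (by ring), mul_comm] at h1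
      exact Units.ext (mul_left_cancel₀ hik h1)
    · intro m _ hm
      rw [Mon_apply, add_zero, if_neg hm, mul_zero]
    · intro h; exact absurd (Finset.mem_univ _) h
    · intro m _ hm
      rw [Mon_apply, add_zero, if_neg (Ne.symm hm), zero_mul]
    · intro h; exact absurd (Finset.mem_univ _) h
  by_cases hζ1 : ζ = 1
  · -- idempotent
    rw [hζ1, one_smul] at hxp
    set N : Matrix (ZMod p) (ZMod p) F := ∑ t ∈ Finset.range p, X ^ t with hN
    have hXN : X * N = N := by
      have h1 := mul_neg_geom_sum X p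
      rw [hxp, sub_self, sub_mul, one_mul, sub_eq_zero] at h1
      exact h1.symm
    have hNX : N * X = N := by
      have h1 := geom_sum_mul_neg X p
      rw [hxp, sub_self, mul_sub, mul_one, sub_eq_zero] at h1
      exact h1.symm
    have hXtN : ∀ t : ℕ, X ^ t * N = N := by
      intro t
      induction t with
      | zero => rw [pow_zero, one_mul]
      | succ t ih => rw [pow_succ, mul_assoc, hXN, ih]
    have hNN : N * N = (p : F) • N := by
      conv_lhs => rw [hN, Finset.sum_mul]
      rw [← hN, Finset.sum_congr rfl (fun t _ => hXtN t), Finset.sum_const, Finset.card_range,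
        ← Nat.cast_smul_eq_nsmul F]
    -- entries of `N`
    have hNentry : ∀ i k : ZMod p, N i k ≠ 0 := by
      intro i k
      have h1 : N i k = (Mon a j ^ ((i - k) * j⁻¹).val) i k := by
        rw [hN, Matrix.sum_apply, Finset.sum_eq_single ((i - k) * j⁻¹).val]
        · intro t ht htne
          rw [hX, Mon_pow, Mon_apply, if_neg]
          intro h
          apply htne
          have h2 : (t : ZMod p) = (i - k) * j⁻¹ := by
            have h3 : i - k = (t : ZMod p) * j := by rw [h]; ring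
            rw [h3, mul_assoc, mul_inv_cancel₀ hj, mul_one]
          rw [← h2, ZMod.val_natCast_of_lt (Finset.mem_range.1 ht)]
        · intro h
          exact absurd (Finset.mem_range.2 (ZMod.val_lt _)) h
      rw [h1, Mon_pow, Mon_apply, if_pos]
      · exact Units.ne_zero _
      · rw [ZMod.natCast_zmod_val, mul_assoc, inv_mul_cancel₀ hj, mul_one]; ring
    -- choose `m`
    set m : F := ((w : F) - 1) / p with hm
    have hwF : (w : F) - 1 ≠ 0 := by
      intro h; apply hw1; apply Units.ext; rw [Units.val_one]; exact sub_eq_zero.1 h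
    have hm0 : m ≠ 0 := div_ne_zero hwF hpF
    apply key (1 + m • N) (1 + (((w⁻¹ : Fˣ) : F) - 1) • ((p : F)⁻¹ • N)) 1 one_ne_zero
    · rw [one_smul, add_mul, one_mul, mul_add, mul_one, smul_mul_assoc, mul_smul_comm, mul_smul_comm,
        hNN, smul_smul, smul_smul, smul_smul, smul_smul, add_assoc, ← add_smul, ← add_smul]
      have : ((((w⁻¹ : Fˣ) : F) - 1) * (p : F)⁻¹ + (m + m * ((((w⁻¹ : Fˣ) : F) - 1) * ((p : F)⁻¹ * p)))) = 0 := by
        rw [hm]
        have hwi : (w : F) * ((w⁻¹ : Fˣ) : F) = 1 := w.mul_inv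
        field_simp
        linear_combination hwi
      first
      | rw [this, zero_smul, add_zero]
      | (convert add_zero _ using 2
         convert zero_smul F N using 2
         linear_combination this)
    · rw [mul_add, add_mul, mul_one, one_mul, mul_smul_comm, smul_mul_assoc, hXN, hNX]
    · intro b hb
      -- `b k = rfl' w 0 i` for all `i ≠ k`
      have h1 : ∀ i k : ZMod p, i ≠ k → rfl' w 0 i = b k := by
        intro i k hik
        apply entry _ b hb
        rw [Matrix.add_apply, Matrix.one_apply_ne hik, zero_add, Matrix.smul_apply, smul_eq_mul]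
        exact mul_ne_zero hm0 (hNentry i k)
      have hjj : j + j ≠ 0 := by
        intro h8
        have h9 : (2 : ZMod p) * j = 0 := by linear_combination h8
        rcases mul_eq_zero.1 h9 with h10 | h10
        · have h11 : ((2 : ℕ) : ZMod p) = 0 := by exact_mod_cast h10
          rw [ZMod.natCast_eq_zero_iff] at h11
          exact hp ((Nat.prime_dvd_prime_iff_eq Fact.out Nat.prime_two).1 h11)
        · exact hj h10
      have h2 := h1 0 j (Ne.symm hj)
      have h3 := h1 (j + j) j (by intro h; apply hj; linear_combination h)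
      rw [← h2, hrne _ hjj, hr0] at h3
      exact hw1 h3.symm
  · -- `1 + X`
    have hζm : (1 : F) + ζ ≠ 0 := by
      intro h
      apply hζ1
      have h1 : ζ = -1 := by linear_combination h
      rw [h1, hodd.neg_one_pow] at hζp
      rw [h1, hζp]
    apply key (1 + X) (∑ t ∈ Finset.range p, (-X) ^ t) (1 + ζ) hζm
    · have h1 := mul_neg_geom_sum (-X) p
      rw [sub_neg_eq_add, hodd.neg_pow, hxp, sub_neg_eq_add] at h1
      rw [h1, add_smul, one_smul]
    · rw [mul_add, add_mul, mul_one, one_mul]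
    · intro b hb
      have h1 : rfl' w (0 : ZMod p) 0 = b 0 := by
        apply entry _ b hb
        rw [Matrix.add_apply, Matrix.one_apply_eq, hX, Mon_apply, if_neg (by simpa using Ne.symm hj)]
        simp
      have h2 : rfl' w (0 : ZMod p) j = b 0 := by
        apply entry _ b hb
        rw [Matrix.add_apply, Matrix.one_apply_ne hj, hX, Mon_apply, if_pos (by ring), zero_add]
        exact Units.ne_zero _
      rw [← h1, hrne _ hj, hr0] at h2
      exact hw1 h2.symm

/-- The diagonal elements with a repeated entry. -/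
theorem two_of_repeated (Q : Sylow p (GL (ZMod p) F)) (hQ : (Q : Subgroup _) = QQ F p)
    {w : Fˣ} (hw : IsPrimitiveRoot w p) {x : GL (ZMod p) F} {a : ZMod p → Fˣ}
    (ha : ∀ i, a i ^ p = 1)
    (hx : (x : Matrix (ZMod p) (ZMod p) F) = Mon a 0) {i k : ZMod p} (hik : i ≠ k) (haik : a i = a k) :
    ∃ P R : Sylow p (GL (ZMod p) F), P ≠ R ∧ x ∈ P ∧ x ∈ R := by
  classical
  have hpp : p.Prime := Fact.out
  have hw1 : w ≠ 1 := hw.ne_one hpp.one_lt
  have hQmem : ∀ g, g ∈ Q ↔ g ∈ QQ F p := by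
    intro g; rw [← mem_coe_iff, hQ]
  have hxQ : x ∈ Q := (hQmem x).2 ⟨a, 0, ha, hx⟩
  have hyQ : MonU (rfl' w i) 0 ∈ Q := (hQmem _).2 ⟨_, _, fun t => rfl'_pow hw.pow_eq_one i t, rfl⟩
  have hT1 : Matrix.transvection i k (1 : F) * Matrix.transvection i k (-1 : F) = 1 := by
    rw [Matrix.transvection_mul_transvection_same i k hik]; simp
  have hT2 : Matrix.transvection i k (-1 : F) * Matrix.transvection i k (1 : F) = 1 := by
    rw [Matrix.transvection_mul_transvection_same i k hik]; simp
  let C : GL (ZMod p) F := ⟨Matrix.transvection i k (1 : F), Matrix.transvection i k (-1 : F), hT1, hT2⟩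
  have hC : (C : Matrix (ZMod p) (ZMod p) F) = 1 + Matrix.single i k 1 := rfl
  have hdiag : ∀ b : ZMod p → Fˣ, (Mon b 0 : Matrix (ZMod p) (ZMod p) F) =
      Matrix.diagonal (fun i => ((b i : Fˣ) : F)) := by
    intro b
    ext r t
    rw [Mon_apply, add_zero, Matrix.diagonal_apply]
  apply two_of_commute Q (c := C) hxQ _ hyQ
  · rw [hQmem]
    rintro ⟨b, l, hbp, hbl⟩
    have h1 : Mon (rfl' w i) 0 * (1 + Matrix.single i k 1) = (1 + Matrix.single i k 1) * Mon b l := by
      have h2 : MonU (rfl' w i) 0 * C = C * (C⁻¹ * MonU (rfl' w i) 0 * C) := by group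
      calc Mon (rfl' w i) 0 * (1 + Matrix.single i k 1) = ((MonU (rfl' w i) 0 * C : GL (ZMod p) F) :
            Matrix (ZMod p) (ZMod p) F) := rfl
        _ = ((C * (C⁻¹ * MonU (rfl' w i) 0 * C) : GL (ZMod p) F) :
            Matrix (ZMod p) (ZMod p) F) := by rw [← h2]
        _ = _ := by rw [Units.val_mul C, hbl, hC]
    rw [mul_add, add_mul, mul_one, one_mul] at h1
    have hr1 : rfl' w i i = w := by unfold rfl'; rw [if_pos rfl]
    have hr2 : rfl' w i k = 1 := by unfold rfl'; rw [if_neg (Ne.symm hik)]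
    -- entries
    have e1 : (Mon b l : Matrix (ZMod p) (ZMod p) F) k k = 1 := by
      have h3 := congrFun (congrFun h1 k) k
      rw [Matrix.add_apply, Matrix.add_apply, Matrix.single_mul_apply_of_ne _ _ _ _ _ (Ne.symm hik),
        hdiag (rfl' w i), Matrix.diagonal_mul, Matrix.diagonal_apply_eq, hr2,
        Matrix.single_apply_of_row_ne hik] at h3
      simpa using h3.symm
    have e2 : (Mon b l : Matrix (ZMod p) (ZMod p) F) i k = w - 1 := by
      have h3 := congrFun (congrFun h1 i) k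
      rw [Matrix.add_apply, Matrix.add_apply, Matrix.single_mul_apply_same,
        hdiag (rfl' w i), Matrix.diagonal_mul, Matrix.diagonal_apply_ne _ hik, hr1,
        Matrix.single_apply_same, e1] at h3
      linear_combination (-1 : F) * h3
    have hwF : (w : F) - 1 ≠ 0 := by
      intro h; apply hw1; apply Units.ext; rw [Units.val_one]; exact sub_eq_zero.1 h
    have hl : l = 0 := by
      by_contra hl
      rw [Mon_apply, if_neg (by simpa using hl)] at e1
      exact zero_ne_one e1
    rw [hl, Mon_apply, add_zero, if_neg hik] at e2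
    exact hwF e2.symm
  · apply Units.ext
    rw [Units.val_mul, Units.val_mul, hx, hC, hdiag, mul_add, add_mul, mul_one, one_mul]
    congr 1
    ext r t
    rw [Matrix.diagonal_mul, Matrix.mul_diagonal]
    by_cases hr : i = r ∧ k = t
    · obtain ⟨rfl, rfl⟩ := hr
      rw [haik, mul_comm]
    · rw [Matrix.single_apply_of_ne _ _ _ _ _ hr]; simp

/-- A diagonal matrix with different entries in the `p`-th roots of unity is conjugate to the cyclic shift. -/
theorem conj_shift {a : ZMod p → Fˣ} (ha : ∀ i, a i ^ p = 1) (hinj : Function.Injective a) :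
    ∃ g : GL (ZMod p) F, g⁻¹ * MonU a 0 * g = MonU (fun _ => 1) 1 := by
  classical
  have hpp : p.Prime := Fact.out
  let V : Matrix (ZMod p) (ZMod p) F := fun i k => ((a i ^ k.val : Fˣ) : F)
  let e : Fin p ≃ ZMod p :=
    { toFun := fun k => ((k : ℕ) : ZMod p)
      invFun := fun z => ⟨z.val, ZMod.val_lt z⟩
      left_inv := fun k => by
        apply Fin.ext
        exact ZMod.val_natCast_of_lt k.2
      right_inv := fun z => ZMod.natCast_zmod_val z }
  have hV : V.submatrix e e = Matrix.vandermonde (fun i => ((a (e i) : Fˣ) : F)) := by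
    ext i k
    rw [Matrix.submatrix_apply, Matrix.vandermonde_apply]
    change ((a (e i) ^ (e k).val : Fˣ) : F) = _
    have : (e k).val = (k : ℕ) := ZMod.val_natCast_of_lt k.2
    rw [this, Units.val_pow_eq_pow_val]
  have hdet : V.det ≠ 0 := by
    rw [← Matrix.det_submatrix_equiv_self e V, hV, Matrix.det_vandermonde_ne_zero_iff]
    intro i k h
    exact e.injective (hinj (Units.ext h))
  let g : GL (ZMod p) F := Matrix.GeneralLinearGroup.mkOfDetNeZero V hdet
  refine ⟨g, ?_⟩
  rw [mul_assoc, inv_mul_eq_iff_eq_mul]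
  apply Units.ext
  rw [Units.val_mul, Units.val_mul, coe_MonU, coe_MonU]
  change Mon a 0 * V = V * Mon (fun _ => 1) 1
  ext i k
  rw [Matrix.mul_apply, Matrix.mul_apply, Finset.sum_eq_single i, Finset.sum_eq_single (k + 1)]
  · rw [Mon_apply, Mon_apply, if_pos (by ring), if_pos rfl, Units.val_one, mul_one]
    change ((a i : Fˣ) : F) * ((a i ^ k.val : Fˣ) : F) = ((a i ^ (k + 1).val : Fˣ) : F)
    rw [← Units.val_mul, ← pow_succ']
    congr 1
    have : Fact (1 < p) := ⟨hpp.one_lt⟩
    rw [ZMod.val_add, ZMod.val_one]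
    exact pow_eq_pow_mod _ (ha i)
  · intro m _ hm
    rw [Mon_apply, if_neg hm, mul_zero]
  · intro h; exact absurd (Finset.mem_univ _) h
  · intro m _ hm
    rw [Mon_apply, add_zero, if_neg (Ne.symm hm), zero_mul]
  · intro h; exact absurd (Finset.mem_univ _) h

theorem red2_zmod [Fintype F] (hp : p ≠ 2) (h1 : p ∣ Fintype.card F - 1)
    (h2 : ¬ p ^ 2 ∣ Fintype.card F - 1) : Red2 p (GL (ZMod p) F) := by
  classical
  have hpp : p.Prime := Fact.out
  have hne : NeZero p := ⟨hpp.ne_zero⟩
  obtain ⟨w, hw⟩ : ∃ w : Fˣ, orderOf w = p := by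
    apply exists_prime_orderOf_dvd_card p
    rw [Fintype.card_units]; exact h1
  have hwp : IsPrimitiveRoot w p := hw ▸ IsPrimitiveRoot.orderOf w
  have hwF : IsPrimitiveRoot (w : F) p := IsPrimitiveRoot.coe_units_iff.2 hwp
  have hpF : (p : F) ≠ 0 := by
    intro h
    have h3 : (Fintype.card F : F) = 0 := Nat.cast_card_eq_zero F
    obtain ⟨m, hm⟩ := h1
    have hq : 1 < Fintype.card F := Fintype.one_lt_card
    have h4 : Fintype.card F = p * m + 1 := by omega
    rw [h4] at h3
    push_cast at h3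
    rw [h, zero_mul, zero_add] at h3
    exact one_ne_zero h3
  let Q : Sylow p (GL (ZMod p) F) := Sylow.ofCard (QQ F p) (by
    rw [card_QQ hwF, factorization_card hp h1 h2])
  have hQ : (Q : Subgroup (GL (ZMod p) F)) = QQ F p := Sylow.coe_ofCard _ _
  intro x hx
  obtain ⟨R, hR⟩ := exists_sylow_mem hx
  obtain ⟨g, hg⟩ := MulAction.exists_smul_eq (GL (ZMod p) F) Q R
  have hxg : g⁻¹ * x * g ∈ Q := by
    rw [← mem_smul_iff, hg]; exact hR
  apply two_of_conj (g := g)
  rw [← mem_coe_iff, hQ] at hxg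
  obtain ⟨a, j, ha, haj⟩ := hxg
  by_cases hj : j = 0
  · subst hj
    by_cases hinj : Function.Injective a
    · obtain ⟨c, hc⟩ := conj_shift ha hinj
      apply two_of_conj (g := c)
      have h3 : g⁻¹ * x * g = MonU a 0 := Units.ext haj
      rw [h3, hc]
      exact two_of_ne_zero hp Q hQ hwp hpF (fun _ => one_pow p) rfl one_ne_zero
    · rw [Function.Injective] at hinj
      push Not at hinj
      obtain ⟨i, k, haik, hik⟩ := hinj
      exact two_of_repeated Q hQ hwp ha haj hik haik
  · exact two_of_ne_zero hp Q hQ hwp hpF ha haj hj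

theorem red_fin [Fintype F] (hp : p ≠ 2) (h1 : p ∣ Fintype.card F - 1)
    (h2 : ¬ p ^ 2 ∣ Fintype.card F - 1) : Red p (GL (Fin p) F) := by
  have hne : NeZero p := ⟨(Fact.out : p.Prime).ne_zero⟩
  have e : GL (ZMod p) F ≃* GL (Fin p) F :=
    Units.mapEquiv (Matrix.reindexRingEquiv F (ZMod.finEquiv p).toEquiv.symm).toMulEquiv
  rw [← red_iff_of_central (G := GL (ZMod p) F) e.toMonoidHom e.surjective, red_iff]
  · exact red2_zmod hp h1 h2
  · rw [(MonoidHom.ker_eq_bot_iff e.toMonoidHom).2 e.injective]; exact bot_le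

end Cfsg.Agent.H574.GLPrime
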