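import Cfsg.Agent.H574.NinRed
import Cfsg.Agent.CpAutTh.RankOne
import Cfsg.Agent.S0204

/-!
# Groups with an isolated prime and one class of commuting involutions (helper574)
-/

set_option autoImplicit false

namespace Cfsg.Agent.H574.NinRank

open Subgroup Cfsg.Agent.H574.NinRed Cfsg.Agent.CpAutTh.RankOne

universe u

/-- a simple group has different commuting involutions -/
theorem not_uInv {K : Type u} [Group K] [Finite K] (hs : IsSimpleGroup K) (hnc : ¬ IsMulCommutative K) : ¬ UInv K := by
  intro hU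
  have hcyc : ¬ IsCyclic K := by
    intro hcyc
    apply hnc
    exact ⟨⟨fun a b => (IsCyclic.commGroup (α := K)).mul_comm a b⟩⟩
  obtain ⟨E, hE⟩ := S0204.result hcyc
  have h4 : Nat.card ↥E = 4 := hE.card_four
  have h5 : ∀ a : ↥E, a ≠ 1 → orderOf ((a : K)) = 2 := by
    intro a ha
    rw [Subgroup.orderOf_coe]
    apply orderOf_eq_prime _ ha
    have h6 := Monoid.pow_exponent_eq_one a
    rw [hE.exponent_two] at h6
    exact h6
  have hcommE : ∀ a b : ↥E, a * b = b * a := by
    intro a b
    have hsq : ∀ x : ↥E, x * x = 1 := by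
      intro x
      have h6 := Monoid.pow_exponent_eq_one x
      rw [hE.exponent_two, pow_two] at h6
      exact h6
    have h7 := hsq (a * b)
    calc a * b = a * b * ((a * b) * (a * b))⁻¹ := by rw [h7, inv_one, mul_one]
      _ = b⁻¹ * a⁻¹ := by group
      _ = b * a := by rw [inv_eq_of_mul_eq_one_left (hsq a), inv_eq_of_mul_eq_one_left (hsq b)]
  -- two different non-trivial elements
  have h6 : ∃ a b : ↥E, a ≠ 1 ∧ b ≠ 1 ∧ a ≠ b := by
    by_contra hcon
    push Not at hcon
    have h7 : ∃ a : ↥E, a ≠ 1 := by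
      by_contra h8
      push Not at h8
      have : Subsingleton ↥E := ⟨fun a b => by rw [h8 a, h8 b]⟩
      rw [Nat.card_unique] at h4
      omega
    obtain ⟨a, ha⟩ := h7
    have h8 : (Set.univ : Set ↥E) ⊆ {1, a} := by
      intro b _
      by_cases hb1 : b = 1
      · exact Or.inl hb1
      · exact Or.inr (hcon a b ha hb1).symm
    have h9 := Set.ncard_le_ncard h8 (Set.toFinite _)
    rw [Set.ncard_univ, h4] at h9
    have h10 := Set.ncard_insert_le (1 : ↥E) {a}
    rw [Set.ncard_singleton] at h10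
    omega
  obtain ⟨a, b, ha, hb', hab⟩ := h6
  apply hab
  apply Subtype.ext
  exact hU _ _ (h5 a ha) (h5 b hb') (congrArg Subtype.val (hcommE a b))

/-- an element of order 4 -/
theorem four_dvd {X : Type u} [Group X] [Finite X] {s q : X} (hs : orderOf s = 2) (hq : q * q = s) : 4 ∣ Nat.card X := by
  have : Fact (Nat.Prime 2) := ⟨Nat.prime_two⟩
  have h1 : orderOf q = 4 := by
    refine orderOf_eq_prime_pow (p := 2) (n := 1) (x := q) ?_ ?_
    · rw [pow_one, pow_two, hq]
      rintro rfl
      rw [orderOf_one] at hs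
      omega
    · rw [show 2 ^ (1 + 1) = 2 * 2 by norm_num, pow_mul, pow_two q, hq, ← hs, pow_orderOf_eq_one]
  rw [← h1]
  exact orderOf_dvd_natCard q

/-- **rank one** -/
theorem not_dvd_of_unique {X : Type u} [Group X] [Finite X] {r : ℕ} (h : Hyp r X) {s q : X} (hs : orderOf s = 2)
    (hq : q * q = s) (hu : ∀ u : X, orderOf u = 2 → u * s = s * u → u = s) : ¬ r ∣ Nat.card X := by
  intro hr
  obtain ⟨L, hL, hLodd, -, -, K, -, hKs, -, hKnc, -⟩ := h.reduction hr (four_dvd hs hq)
  exact not_uInv hKs hKnc (((uInv_of_unique hs hu).1.quot L hLodd).sub K)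

end Cfsg.Agent.H574.NinRank
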