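import Cfsg.Agent.H568.Row
import Cfsg.Agent.Lib.Cores
import Cfsg.Agent.Lib.MinNormal

/-!
# Groups with an isolated prime (helper574)

`X` a finite group of order divisible by 4, `r ∥ |X|` a prime such that no element of order `r` commutes with an
involution, `r ∤ 2 ^ k - 1` for `2 ^ k ∣ |X|` and `4 ∤ r - 1`: then `O_{r'}(X)` has odd order and `X / O_{r'}(X)` has a
nonabelian simple normal subgroup `K` with `r ∣ |K|`, `C(K) = 1`.
-/

set_option autoImplicit false

namespace Cfsg.Agent.H574.NinRed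

open Subgroup

universe u

section

variable {X : Type u} [Group X] [Finite X] {r : ℕ}

/-- the hypotheses -/
structure Hyp (r : ℕ) (X : Type u) [Group X] : Prop where
  pr : r.Prime
  ninv : ∀ w t : X, orderOf w = r → orderOf t = 2 → w * t ≠ t * w
  sq : ¬ r ^ 2 ∣ Nat.card X
  ord : ∀ k : ℕ, k ≠ 0 → 2 ^ k ∣ Nat.card X → ¬ r ∣ 2 ^ k - 1
  four : ¬ 4 ∣ r - 1
  ne : r ≠ 2

omit [Finite X] in
theorem index_dvd_of_sup {N H : Subgroup X} [N.Normal] (h : H ⊔ N = ⊤) : N.index ∣ Nat.card H := by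
  rw [← relIndex_top_right, ← h, relIndex_sup_right]
  exact relIndex_dvd_card N H

/-- an element of order `r` normalises no 2-subgroup -/
theorem Hyp.noNorm (h : Hyp r X) {w : X} (hw : orderOf w = r) : H568.NoNorm 2 w := by
  have : Fact (Nat.Prime 2) := ⟨Nat.prime_two⟩
  exact H568.noNorm_of_order h.pr hw (fun y hy => h.ninv w y hw hy) h.ord

/-- normal subgroups of order not divisible by `r` have odd order -/
theorem Hyp.odd_of_not_dvd (h : Hyp r X) (hr : r ∣ Nat.card X) (N : Subgroup X) [N.Normal] (hN : ¬ r ∣ Nat.card N) :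
    Odd (Nat.card N) := by
  classical
  have : Fact (Nat.Prime 2) := ⟨Nat.prime_two⟩
  have : Fact r.Prime := ⟨h.pr⟩
  by_contra hodd
  rw [Nat.not_odd_iff_even, even_iff_two_dvd] at hodd
  obtain ⟨P⟩ : Nonempty (Sylow 2 N) := inferInstance
  set Q : Subgroup X := (P : Subgroup N).map N.subtype with hQ
  have hF : normalizer (Q : Set X) ⊔ N = ⊤ := Sylow.normalizer_sup_eq_top P
  have hQb : Q ≠ ⊥ := by
    intro hb
    have h1 : 2 ∣ Nat.card (P : Subgroup N) := P.dvd_card_of_dvd_card hodd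
    rw [hQ, Subgroup.map_eq_bot_iff_of_injective _ N.subtype_injective] at hb
    rw [hb, Subgroup.card_bot] at h1
    omega
  have hQp : IsPGroup 2 Q := P.isPGroup'.map _
  have hdvd : r ∣ Nat.card (normalizer (Q : Set X)) := by
    have h1 := index_dvd_of_sup hF
    have h2 := card_mul_index N
    rw [← h2] at hr
    exact ((h.pr.dvd_mul.1 hr).resolve_left hN).trans h1
  obtain ⟨⟨w, hwN⟩, hw⟩ := exists_prime_orderOf_dvd_card' r hdvd
  rw [Subgroup.orderOf_mk] at hw
  exact hQb (h.noNorm hw Q hQp hwN)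

/-- the normaliser of a subgroup of order `r` has order not divisible by 4 -/
theorem Hyp.not_four_dvd_normalizer (h : Hyp r X) {W : Subgroup X} (hW : Nat.card W = r) :
    ¬ 4 ∣ Nat.card (normalizer (W : Set X)) := by
  classical
  have : Fact (Nat.Prime 2) := ⟨Nat.prime_two⟩
  have : Fact r.Prime := ⟨h.pr⟩
  intro h4
  have hcyc : IsCyclic W := isCyclic_of_prime_card hW
  -- the action on `W`
  have h1 : Nat.card W.normalizerMonoidHom.range ∣ r - 1 := by
    have h2 : Nat.card (MulAut W) = r - 1 := by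
      rw [IsCyclic.card_mulAut, hW, Nat.totient_prime h.pr]
    rw [← h2]
    exact card_subgroup_dvd_card _
  have h2 : Nat.card W.normalizerMonoidHom.ker * Nat.card W.normalizerMonoidHom.range =
      Nat.card (normalizer (W : Set X)) := by
    rw [← card_mul_index W.normalizerMonoidHom.ker, index_ker]
  have h3 : 2 ∣ Nat.card W.normalizerMonoidHom.ker := by
    by_contra h5
    have h6 : Nat.Coprime 4 (Nat.card W.normalizerMonoidHom.ker) :=
      Nat.Coprime.pow_left 2 ((Nat.Prime.coprime_iff_not_dvd Nat.prime_two).2 h5)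
    rw [← h2] at h4
    exact h.four ((h6.dvd_of_dvd_mul_left h4).trans h1)
  obtain ⟨⟨⟨t, htN⟩, htk⟩, ht⟩ := exists_prime_orderOf_dvd_card' 2 h3
  rw [Subgroup.orderOf_mk, Subgroup.orderOf_mk] at ht
  obtain ⟨⟨w, hwW⟩, hw⟩ := exists_prime_orderOf_dvd_card' r (dvd_of_eq hW.symm)
  rw [Subgroup.orderOf_mk] at hw
  apply h.ninv w t hw ht
  rw [normalizerMonoidHom_ker, mem_subgroupOf, mem_centralizer_iff] at htk
  exact htk w hwW

/-- normal subgroups of order divisible by `r` -/
theorem Hyp.not_four_dvd_index (h : Hyp r X) (N : Subgroup X) [N.Normal] (hN : r ∣ Nat.card N) :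
    ¬ 4 ∣ N.index := by
  classical
  have : Fact r.Prime := ⟨h.pr⟩
  intro h4
  obtain ⟨P⟩ : Nonempty (Sylow r N) := inferInstance
  set Q : Subgroup X := (P : Subgroup N).map N.subtype with hQ
  have hF : normalizer (Q : Set X) ⊔ N = ⊤ := Sylow.normalizer_sup_eq_top P
  have hQc : Nat.card Q = r := by
    rw [hQ, card_map_of_injective N.subtype_injective]
    obtain ⟨n, hn⟩ := IsPGroup.iff_card.1 P.isPGroup'
    have h1 : r ∣ Nat.card (P : Subgroup N) := P.dvd_card_of_dvd_card hN
    have h2 : n ≠ 0 := by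
      rintro rfl
      rw [hn, pow_zero] at h1
      exact h.pr.one_lt.ne' (Nat.dvd_one.1 h1)
    have h3 : n < 2 := by
      by_contra h3
      apply h.sq
      refine (pow_dvd_pow r (not_lt.1 h3)).trans ?_
      rw [← hn]
      exact (card_subgroup_dvd_card _).trans (card_subgroup_dvd_card N)
    have h4 : n = 1 := by omega
    rw [hn, h4, pow_one]
  exact h.not_four_dvd_normalizer hQc (h4.trans (index_dvd_of_sup hF))

/-- a group with `O_{r'} = 1` and `r ∥ |Y|` has a simple minimal normal subgroup of order divisible by `r` -/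
theorem exists_simple {Y : Type u} [Group Y] [Finite Y] (hr : r.Prime) (hrY : r ∣ Nat.card Y)
    (hsq : ¬ r ^ 2 ∣ Nat.card Y) (hN : ∀ N : Subgroup Y, N.Normal → N ≠ ⊥ → r ∣ Nat.card N) :
    ∃ K : Subgroup Y, K.Normal ∧ IsSimpleGroup K ∧ r ∣ Nat.card K := by
  classical
  -- a minimal normal subgroup
  have htop : (⊤ : Subgroup Y) ≠ ⊥ := by
    intro h
    rw [← card_top (G := Y), h, card_bot] at hrY
    exact hr.one_lt.ne' (Nat.dvd_one.1 hrY)
  obtain ⟨K, ⟨hKn, hKb⟩, hmin⟩ := exists_minimal_of_wellFoundedLT (fun K : Subgroup Y => K.Normal ∧ K ≠ ⊥)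
    ⟨⊤, inferInstance, htop⟩
  have hmin' : ∀ M : Subgroup Y, M.Normal → M ≤ K → M = ⊥ ∨ M = K := by
    intro M hM hMK
    by_cases hMb : M = ⊥
    · exact Or.inl hMb
    · exact Or.inr (le_antisymm hMK (hmin ⟨hM, hMb⟩ hMK))
  obtain ⟨T, m, hTK, hTs, hm, ⟨e⟩⟩ := Lib.MinNormal.exists_mulEquiv_pi K hKb hmin'
  have hc : Nat.card K = Nat.card T ^ m := by
    rw [Nat.card_congr e.toEquiv, Nat.card_fun, Nat.card_fin]
  have hrK := hN K hKn hKb
  have hrT : r ∣ Nat.card T := by
    rw [hc] at hrK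
    exact hr.dvd_of_dvd_pow hrK
  have hm1 : m = 1 := by
    by_contra hm1
    apply hsq
    refine (dvd_trans (pow_dvd_pow_of_dvd hrT 2) ?_).trans (card_subgroup_dvd_card K)
    rw [hc]
    exact pow_dvd_pow _ (by omega)
  have hTK' : T = K := by
    refine Subgroup.eq_of_le_of_card_ge hTK ?_
    rw [hc, hm1, pow_one]
  subst hTK'
  exact ⟨T, hKn, hTs, hrK⟩

/-- **The reduction.** -/
theorem Hyp.reduction (h : Hyp r X) (hr : r ∣ Nat.card X) (h4 : 4 ∣ Nat.card X) :
    ∃ (L : Subgroup X) (_ : L.Normal), Odd (Nat.card L) ∧ ¬ r ∣ Nat.card L ∧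
      (∀ N : Subgroup X, N.Normal → ¬ r ∣ Nat.card N → N ≤ L) ∧
      ∃ K : Subgroup (X ⧸ L), K.Normal ∧ IsSimpleGroup K ∧ r ∣ Nat.card K ∧ ¬ IsMulCommutative K ∧
        centralizer (K : Set (X ⧸ L)) = ⊥ := by
  classical
  have : Fact r.Prime := ⟨h.pr⟩
  set L := pPrimeCore r X with hL
  have hLn : L.Normal := Lib.Cores.pPrimeCore_normal r
  have hLr : ¬ r ∣ Nat.card L := by
    intro h1
    have h2 := Lib.Cores.pPrimeCore_coprime (G := X) r
    exact (Nat.Prime.coprime_iff_not_dvd h.pr).1 h2.symm h1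
  have hLodd := h.odd_of_not_dvd hr L hLr
  have hcard : Nat.card L * Nat.card (X ⧸ L) = Nat.card X := by
    rw [← card_mul_index L]; rfl
  have hrY : r ∣ Nat.card (X ⧸ L) := by
    rw [← hcard] at hr
    exact (h.pr.dvd_mul.1 hr).resolve_left hLr
  have hsqY : ¬ r ^ 2 ∣ Nat.card (X ⧸ L) := fun h1 => h.sq (h1.trans (hcard ▸ dvd_mul_left _ _))
  have h4Y : 4 ∣ Nat.card (X ⧸ L) := by
    rw [← hcard] at h4
    exact (Nat.Coprime.pow_left 2 (Nat.coprime_two_left.2 hLodd)).dvd_of_dvd_mul_left h4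
  have hNY : ∀ N : Subgroup (X ⧸ L), N.Normal → N ≠ ⊥ → r ∣ Nat.card N := by
    intro N hN hNb
    by_contra h1
    apply hNb
    have h2 : N ≤ pPrimeCore r (X ⧸ L) :=
      Lib.Cores.le_pPrimeCore hN ((Nat.Prime.coprime_iff_not_dvd h.pr).2 h1).symm
    have h3 : pPrimeCore r (X ⧸ L) = ⊥ := Lib.Cores.pPrimeCore_quotient_pPrimeCore r
    rw [h3] at h2
    exact le_bot_iff.1 h2
  obtain ⟨K, hKn, hKs, hKr⟩ := exists_simple h.pr hrY hsqY hNY
  have hKnc : ¬ IsMulCommutative K := by
    intro hcom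
    -- `K` of order `r`
    have hKc : Nat.card K = r := by
      let _ : CommGroup K := { (inferInstance : Group K) with mul_comm := fun a b => hcom.is_comm.comm a b }
      have h1 : (Nat.card K).Prime := by
        have := CommGroup.is_simple_iff_prime_card.1 (show IsSimpleGroup K from hKs)
        exact this
      exact ((Nat.prime_dvd_prime_iff_eq h.pr h1).1 hKr).symm
    have h1 : r ∣ Nat.card (K.comap (QuotientGroup.mk' L)) := by
      have h3 : (K.comap (QuotientGroup.mk' L)).map (QuotientGroup.mk' L) = K :=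
        map_comap_eq_self_of_surjective (QuotientGroup.mk'_surjective L) K
      have h5 : Nat.card ((K.comap (QuotientGroup.mk' L)).map (QuotientGroup.mk' L)) ∣
          Nat.card (K.comap (QuotientGroup.mk' L)) := card_map_dvd _ _
      rw [h3, hKc] at h5
      exact h5
    have h2 := h.not_four_dvd_index (K.comap (QuotientGroup.mk' L)) h1
    rw [index_comap_of_surjective _ (QuotientGroup.mk'_surjective L)] at h2
    apply h2
    have h3 := card_mul_index K
    rw [hKc] at h3
    rw [← h3] at h4Y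
    have h5 : Nat.Coprime 4 r := Nat.Coprime.pow_left 2 ((Nat.coprime_primes Nat.prime_two h.pr).2 h.ne.symm)
    exact h5.dvd_of_dvd_mul_left h4Y
  refine ⟨L, hLn, hLodd, hLr, fun N hN hNr => Lib.Cores.le_pPrimeCore hN ((Nat.Prime.coprime_iff_not_dvd h.pr).2 hNr).symm,
    K, hKn, hKs, hKr, hKnc, ?_⟩
  by_contra hC
  have h1 := hNY _ inferInstance hC
  apply hsqY
  have hinf : centralizer (K : Set (X ⧸ L)) ⊓ K = ⊥ := by
    rw [eq_bot_iff]
    rintro x ⟨hxC, hxK⟩
    have hxc : (⟨x, hxK⟩ : K) ∈ center K := by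
      rw [mem_center_iff]
      intro y
      exact Subtype.ext (mem_centralizer_iff.1 hxC y y.2)
    rcases (inferInstance : (center K).Normal).eq_bot_or_eq_top with h2 | h2
    · rw [h2, mem_bot] at hxc
      exact congrArg Subtype.val hxc
    · exfalso
      apply hKnc
      refine ⟨⟨fun a b => ?_⟩⟩
      have h3 : b ∈ center K := h2 ▸ mem_top b
      exact mem_center_iff.1 h3 a
  have h2 : K.relIndex (centralizer (K : Set (X ⧸ L))) = Nat.card (centralizer (K : Set (X ⧸ L))) := by
    rw [← inf_relIndex_right, inf_comm, hinf, relIndex_bot_left]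
  have h3 : Nat.card (centralizer (K : Set (X ⧸ L))) ∣ K.index := by
    rw [← h2]
    exact relIndex_dvd_index_of_normal K _
  rw [← card_mul_index K, pow_two]
  exact mul_dvd_mul hKr (h1.trans h3)

end

end Cfsg.Agent.H574.NinRed
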